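import Cfsg.Agent.Lib.Leech.Triangle.MatEl
import Cfsg.Agent.Lib.Leech.Aut.Bridge
import Cfsg.Agent.Lib.Schur.CoThree.Eval
import Cfsg.Agent.Lib.Schur.PathMask

/-!
Checks of Sylow certificates for central extensions of Co2: compact paths, and a lower bound for the order
of a Sylow subgroup from invariant sets of lattice vectors.
-/

set_option autoImplicit false

namespace CfsgLib.SchurCoTwo

open Cfsg CfsgLib CfsgLib.Leech CfsgLib.Leech.Stab CfsgLib.Leech.Aut CfsgLib.SchurLeech
open CfsgLib.Leech.Triangle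
open scoped Pointwise

/-- A path from its start and the codes `position + 256 * (2 * relation + direction)`. -/
def expand (R : SchurPath.Rels) : List ℕ → List ℕ → List SchurPath.Step
  | _, [] => []
  | w, c :: cs =>
    let pos := c % 256
    let r := c / 512
    let d := Nat.beq ((c / 256) % 2) 1
    let l := bif d then (R.getD r ([], [])).2 else (R.getD r ([], [])).1
    let st : SchurPath.Step := (w.take pos, w.drop (pos + l.length), r, d)
    st :: expand R (SchurPath.dst R st) cs

/-- The rows are the forms of the closed paths. -/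
def rowsOK (R : SchurPath.Rels) : List (List ℕ × List ℕ) → List ℕ → Bool
  | [], [] => true
  | q :: qs, a :: as => (fun st => SchurPath.chain R q.1 q.1 st && SchurPath.maskSum st == a) (expand R q.1 q.2) &&
      rowsOK R qs as
  | _, _ => false

theorem isRow_of_rowsOK (R : SchurPath.Rels) : ∀ (P : List (List ℕ × List ℕ)) (rows : List ℕ),
    rowsOK R P rows = true → ∀ a ∈ rows, SchurPath.IsRow R a
  | [], [], _, a, ha => absurd ha List.not_mem_nil
  | q :: qs, b :: bs, h, a, ha => by
    simp only [rowsOK, Bool.and_eq_true, beq_iff_eq] at h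
    rcases List.mem_cons.1 ha with rfl | ha
    · exact ⟨q.1, _, h.1.1, h.1.2⟩
    · exact isRow_of_rowsOK R qs bs h.2 a ha
  | [], _ :: _, h, _, _ => Bool.noConfusion h
  | _ :: _, [], h, _, _ => Bool.noConfusion h

/-- All paths, expanded. -/
def expandAll (R : SchurPath.Rels) (P : List (List ℕ × List ℕ)) : List (List ℕ × List SchurPath.Step) :=
  P.map fun q => (q.1, expand R q.1 q.2)

/-- The stabiliser in Co0 of the fixed vector of Co2. -/
noncomputable abbrev G2 : Subgroup Co0 := MulAction.stabilizer Co0 Cfsg.Spor.leechU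

/-- The packed fixed vector. -/
def vC : ℕ := packL (lin (listOf Cfsg.Spor.vecU))

theorem vC_rep : Stab.Rep (Cfsg.Spor.leechU : GolayPt → ℤ) vC :=
  rep_packL (f := Cfsg.Spor.vecU) (by decide +kernel)

/-- A lattice matrix with its transpose. -/
abbrev Mat : Type := List (List ℤ) × List (List ℤ)

/-- The columns of the letters. -/
def lettersC (M : List Mat) : List (List ℕ) := M.map fun m => colsOf m.1

/-- A level of the order bound: a vector, an invariant set. -/
abbrev Lev : Type := ℕ × List ℕ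

/-- Check of one letter. -/
def letOK (m : Mat) : Bool := elB m.1 m.2 && colsB m.1 && applyB (colsOf m.1) vC vC

/-- Check of one relation. -/
def relOK (L : List (List ℕ)) (r : List ℕ × List ℕ) : Bool :=
  evalB L r.1 && evalB L r.2 && eqC (evalC L r.1) (evalC L r.2)

/-- Check of the level `k`. -/
def levOK (L : List (List ℕ)) (p k : ℕ) (v : Lev) : Bool :=
  latB v.1 && v.2.all latB && v.2.any (Nat.beq v.1) &&
    ((List.range k).all fun a => v.2.all fun x => vecB L [a] x && v.2.any (Nat.beq (evalV L [a] x))) &&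
    ((List.range p).all fun i => Nat.beq i 0 ||
      (vecB L (List.replicate i k) v.1 && !(v.2.any (Nat.beq (evalV L (List.replicate i k) v.1)))))

/-- All checks against the group. -/
def dataOK (M : List Mat) (R : SchurPath.Rels) (V : List Lev) (p m : ℕ) : Bool :=
  R.all (relOK (lettersC M)) && Nat.ble m M.length &&
    (List.range m).all fun k => levOK (lettersC M) p k (V.getD k (0, []))

theorem coe_wv (e : ℕ → G2) : ∀ w, ((SchurPath.wv e w : G2) : Co0) = SchurPath.wv (fun a => (e a : Co0)) w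
  | [] => rfl
  | a :: w => by
    show (e a : Co0) * ((SchurPath.wv e w : G2) : Co0) = _
    rw [coe_wv e w]
    rfl

theorem rep_lat {n : ℕ} (h : latB n = true) :
    sqNorm (lat n : GolayPt → ℤ) ≤ 80 ∧ Stab.Rep (lat n : GolayPt → ℤ) n :=
  ⟨(listOf_lat h).2.2, (listOf_lat h).2.1⟩

theorem rep_code {f : GolayPt → ℤ} {a b : ℕ} (ha : Stab.Rep f a) (hb : Stab.Rep f b) : a = b := by
  have e : colZ a = colZ b := ha.symm.trans hb
  simp only [colZ] at e
  omega

theorem card_chain {G : Type*} [Group G] [Finite G] (e : ℕ → G) (p m : ℕ)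
    (h : ∀ k < m, ∀ i, 0 < i → i < p → e k ^ i ∉ Subgroup.closure {x | ∃ a < k, e a = x}) :
    ∀ k ≤ m, p ^ k ≤ Nat.card (Subgroup.closure {x | ∃ a < k, e a = x})
  | 0, _ => by rw [pow_zero]; exact Nat.card_pos
  | k + 1, hk => by
    set H := Subgroup.closure {x | ∃ a < k, e a = x}
    set K := Subgroup.closure {x | ∃ a < k + 1, e a = x}
    have hle : H ≤ K := Subgroup.closure_mono fun x ⟨a, ha, hax⟩ => ⟨a, by omega, hax⟩
    have hek : e k ∈ K := Subgroup.subset_closure ⟨k, by omega, rfl⟩
    let f : H × Fin p → K := fun x => ⟨x.1 * e k ^ (x.2 : ℕ), mul_mem (hle x.1.2) (pow_mem hek _)⟩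
    have hf : Function.Injective f := by
      have key : ∀ (a b : H) (i j : Fin p), (i : ℕ) ≤ j → (a : G) * e k ^ (i : ℕ) = b * e k ^ (j : ℕ) →
          a = b ∧ i = j := by
        intro a b i j hij he
        obtain ⟨d, hd⟩ := Nat.exists_eq_add_of_le hij
        have h1 : e k ^ d = (b : G)⁻¹ * a := by
          rw [hd, add_comm, pow_add, ← mul_assoc] at he
          have := mul_right_cancel he
          rw [this, inv_mul_cancel_left]
        rcases Nat.eq_zero_or_pos d with rfl | hd0
        · rw [pow_zero, eq_comm, inv_mul_eq_one] at h1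
          exact ⟨Subtype.ext h1.symm, Fin.ext (by omega)⟩
        · exact absurd (h1 ▸ mul_mem (inv_mem b.2) a.2) (h k (by omega) d hd0 (by omega))
      rintro ⟨a, i⟩ ⟨b, j⟩ he
      have he' : (a : G) * e k ^ (i : ℕ) = b * e k ^ (j : ℕ) := congrArg Subtype.val he
      rcases le_total (i : ℕ) j with hij | hij
      · obtain ⟨rfl, rfl⟩ := key a b i j hij he'; rfl
      · obtain ⟨rfl, rfl⟩ := key b a j i hij he'.symm; rfl
    have := Nat.card_le_card_of_injective f hf
    rw [Nat.card_prod, Nat.card_fin] at this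
    rw [pow_succ]
    exact (Nat.mul_le_mul_right p (card_chain e p m h k (by omega))).trans this

theorem not_mem_of_levOK {L : List (List ℕ)} (e : ℕ → G2)
    (he : ∀ a < L.length, Valid (e a : Co0) (L.getD a idC)) {p k : ℕ} (hk : k < L.length) {v : Lev}
    (h : levOK L p k v = true) {i : ℕ} (hi0 : 0 < i) (hip : i < p) :
    e k ^ i ∉ Subgroup.closure {x | ∃ a < k, e a = x} := by
  simp only [levOK, Bool.and_eq_true, List.all_eq_true, List.any_eq_true, List.mem_range, Nat.beq_eq,
    Bool.or_eq_true, Bool.not_eq_true'] at h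
  obtain ⟨⟨⟨⟨hb, hX⟩, hmem⟩, hinv⟩, hout⟩ := h
  obtain ⟨b, hbX, hbv⟩ := hmem
  set S : Set leechLattice := {x | ∃ n ∈ v.2, lat n = x}
  have hSfin : S.Finite := (v.2.finite_toSet.image lat).subset fun x ⟨n, hn, hx⟩ => ⟨n, hn, hx⟩
  have hsub : Subgroup.closure {x | ∃ a < k, e a = x} ≤
      (MulAction.stabilizer Co0 S).comap G2.subtype := by
    rw [Subgroup.closure_le]
    rintro _ ⟨a, ha, rfl⟩
    show (e a : Co0) • S = S
    have h1 : (e a : Co0) • S ⊆ S := by
      rintro _ ⟨_, ⟨n, hn, rfl⟩, rfl⟩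
      obtain ⟨hvb, y, hy, hye⟩ := hinv a ha n hn
      obtain ⟨hn1, hn2⟩ := rep_lat (hX n hn)
      obtain ⟨hy1, hy2⟩ := rep_lat (hX y hy)
      have hr := rep_evalV (fun a => (e a : Co0)) he hn1 [a] n hn2 hvb
      rw [hye] at hr
      simp only [SchurPath.wv, List.map_cons, List.map_nil, List.prod_cons, List.prod_nil, mul_one] at hr
      exact ⟨y, hy, (Subtype.ext (rep_inj hr hy2 (by rw [sqNorm_smul]; exact hn1) hy1)).symm⟩
    exact Set.eq_of_subset_of_ncard_le h1
      (Set.ncard_image_of_injective S (MulAction.injective (e a : Co0))).ge hSfin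
  intro hc
  have hst : ((e k ^ i : G2) : Co0) • S = S := hsub hc
  rcases hout i hip with h0 | ⟨hvb, hno⟩
  · omega
  obtain ⟨hb1, hb2⟩ := rep_lat hb
  have hbS : lat v.1 ∈ S := ⟨b, hbX, by rw [hbv]⟩
  have : ((e k ^ i : G2) : Co0) • lat v.1 ∈ S := by
    rw [← hst]; exact Set.smul_mem_smul_set hbS
  obtain ⟨y, hy, hye⟩ := this
  obtain ⟨hy1, hy2⟩ := rep_lat (hX y hy)
  have hr := rep_evalV (fun a => (e a : Co0)) he hb1 (List.replicate i k) v.1 hb2 hvb
  rw [show SchurPath.wv (fun a => (e a : Co0)) (List.replicate i k) = ((e k ^ i : G2) : Co0) by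
    simp [SchurPath.wv]] at hr
  rw [hye] at hy2
  have heq := rep_code hr hy2
  have : v.2.any (Nat.beq (evalV L (List.replicate i k) v.1)) = true :=
    List.any_eq_true.2 ⟨y, hy, Nat.beq_eq.symm ▸ heq⟩
  rw [hno] at this
  exact Bool.noConfusion this

theorem card_G2 : Nat.card G2 = 42305421312000 := by
  rw [card_stabilizer32 sqNorm_leechU]

/-- The certificate at one prime, applied. -/
theorem not_dvd_of_data (M : List Mat) (V : List Lev) (C : SchurPath.Cert)
    {p : ℕ} [Fact p.Prime] (hC : C.check p = true) (hM : ∀ x ∈ M, letOK x = true) (hD : dataOK M C.rels V p C.m = true) {i : ℕ}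
    (hNi : 42305421312000 = p ^ C.m * i) (hi : ¬ p ∣ i) {Γ : Type} [Group Γ] [Finite Γ]
    (σ : Γ →* G2) (hσ : Function.Surjective σ) (hc : σ.ker ≤ Subgroup.center Γ)
    (hd : σ.ker ≤ commutator Γ) : ¬ p ∣ Nat.card σ.ker := by
  classical
  have : Finite G2 := Finite.of_surjective σ hσ
  simp only [dataOK, Bool.and_eq_true, Nat.ble_eq, List.all_eq_true, List.mem_range] at hD
  obtain ⟨⟨hR, hm⟩, hV⟩ := hD
  have hlen : (lettersC M).length = M.length := List.length_map _
  have hex : ∀ a, ∃ g : G2, a < (lettersC M).length → Valid (g : Co0) ((lettersC M).getD a idC) := by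
    intro a
    by_cases ha : a < M.length
    · have h := hM _ (List.getElem_mem ha)
      simp only [letOK, Bool.and_eq_true] at h
      obtain ⟨⟨h1, h2⟩, h3⟩ := h
      have hn : sqNorm (Cfsg.Spor.leechU : GolayPt → ℤ) ≤ 80 := by rw [sqNorm_leechU]; norm_num
      refine ⟨⟨matEl h1, MulAction.mem_stabilizer_iff.2 (Subtype.ext (rep_inj
        (rep_smul (matEl_valid h1 h2) vC_rep hn (applyC_of_applyB h3)) vC_rep ?_ hn))⟩, fun _ => ?_⟩
      · rw [sqNorm_smul]; exact hn
      · have e : (lettersC M).getD a idC = colsOf (M[a]).1 := by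
          rw [List.getD_eq_getElem _ _ (hlen.symm ▸ ha)]; simp [lettersC]
        rw [e]
        exact matEl_valid h1 h2
    · exact ⟨1, fun h => absurd (hlen ▸ h) ha⟩
  choose e he using hex
  refine SchurPath.not_dvd_card_ker_of_check C hC e ?_ ?_ card_G2 hNi hi σ hσ hc hd
  · intro r hr
    have h := hR _ (List.getElem_mem hr)
    simp only [relOK, Bool.and_eq_true] at h
    obtain ⟨⟨h1, h2⟩, h3⟩ := h
    rw [List.getD_eq_getElem _ _ hr]
    refine Subtype.ext ?_
    rw [coe_wv, coe_wv]
    exact eq_of_eqC (valid_evalC (fun a => (e a : Co0)) he _ h1)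
      (valid_evalC (fun a => (e a : Co0)) he _ h2) h3
  · exact card_chain e p C.m
      (fun k hk i h0 h1 => not_mem_of_levOK e he (by rw [hlen]; omega) (hV k hk) h0 h1) C.m le_rfl

/-- The certificate at the prime 2, applied. -/
theorem not_dvd_of_maskData (M : List Mat) (V : List Lev) (C : SchurPath.Cert) (mus combs rows : List ℕ)
    (hC : SchurPath.maskCheck C mus combs rows = true) (hP : ∀ a ∈ rows, SchurPath.IsRow C.rels a) (hM : ∀ x ∈ M, letOK x = true) (hD : dataOK M C.rels V 2 C.m = true) {i : ℕ}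
    (hNi : 42305421312000 = 2 ^ C.m * i) (hi : ¬ 2 ∣ i) {Γ : Type} [Group Γ] [Finite Γ]
    (σ : Γ →* G2) (hσ : Function.Surjective σ) (hc : σ.ker ≤ Subgroup.center Γ)
    (hd : σ.ker ≤ commutator Γ) : ¬ 2 ∣ Nat.card σ.ker := by
  classical
  have : Finite G2 := Finite.of_surjective σ hσ
  simp only [dataOK, Bool.and_eq_true, Nat.ble_eq, List.all_eq_true, List.mem_range] at hD
  obtain ⟨⟨hR, hm⟩, hV⟩ := hD
  have hlen : (lettersC M).length = M.length := List.length_map _
  have hex : ∀ a, ∃ g : G2, a < (lettersC M).length → Valid (g : Co0) ((lettersC M).getD a idC) := by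
    intro a
    by_cases ha : a < M.length
    · have h := hM _ (List.getElem_mem ha)
      simp only [letOK, Bool.and_eq_true] at h
      obtain ⟨⟨h1, h2⟩, h3⟩ := h
      have hn : sqNorm (Cfsg.Spor.leechU : GolayPt → ℤ) ≤ 80 := by rw [sqNorm_leechU]; norm_num
      refine ⟨⟨matEl h1, MulAction.mem_stabilizer_iff.2 (Subtype.ext (rep_inj
        (rep_smul (matEl_valid h1 h2) vC_rep hn (applyC_of_applyB h3)) vC_rep ?_ hn))⟩, fun _ => ?_⟩
      · rw [sqNorm_smul]; exact hn
      · have e : (lettersC M).getD a idC = colsOf (M[a]).1 := by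
          rw [List.getD_eq_getElem _ _ (hlen.symm ▸ ha)]; simp [lettersC]
        rw [e]
        exact matEl_valid h1 h2
    · exact ⟨1, fun h => absurd (hlen ▸ h) ha⟩
  choose e he using hex
  refine SchurPath.not_dvd_card_ker_of_maskCheck C mus combs rows hC hP e ?_ ?_ card_G2 hNi hi σ hσ hc hd
  · intro r hr
    have h := hR _ (List.getElem_mem hr)
    simp only [relOK, Bool.and_eq_true] at h
    obtain ⟨⟨h1, h2⟩, h3⟩ := h
    rw [List.getD_eq_getElem _ _ hr]
    refine Subtype.ext ?_
    rw [coe_wv, coe_wv]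
    exact eq_of_eqC (valid_evalC (fun a => (e a : Co0)) he _ h1)
      (valid_evalC (fun a => (e a : Co0)) he _ h2) h3
  · exact card_chain e 2 C.m
      (fun k hk i h0 h1 => not_mem_of_levOK e he (by rw [hlen]; omega) (hV k hk) h0 h1) C.m le_rfl

end CfsgLib.SchurCoTwo
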