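import Cfsg.Agent.Lib.Schur.CoTwo.Data2

/-! Kernel checks of lattice matrices. -/

set_option autoImplicit false
set_option maxRecDepth 100000

namespace CfsgLib.SchurCoTwo.P2

theorem let12 : letOK (matA12, matT12) = true := by decide +kernel

theorem let13 : letOK (matA13, matT13) = true := by decide +kernel

theorem let14 : letOK (matA14, matT14) = true := by decide +kernel

theorem let15 : letOK (matA15, matT15) = true := by decide +kernel

end CfsgLib.SchurCoTwo.P2
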