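import Cfsg.Agent.Lib.Schur.CoTwo.Data2

/-! Kernel checks of lattice matrices. -/

set_option autoImplicit false
set_option maxRecDepth 100000

namespace CfsgLib.SchurCoTwo.P2

theorem let16 : letOK (matA16, matT16) = true := by decide +kernel

theorem let17 : letOK (matA17, matT17) = true := by decide +kernel

theorem let18 : letOK (matA18, matT18) = true := by decide +kernel

theorem let19 : letOK (matA19, matT19) = true := by decide +kernel

end CfsgLib.SchurCoTwo.P2
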