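import Cfsg.Agent.Lib.Schur.CoTwo.Data2

/-! Kernel checks of closed paths. -/

set_option autoImplicit false
set_option maxRecDepth 100000

namespace CfsgLib.SchurCoTwo.P2

theorem rows8_ok : rowsOK rels paths8 rows8 = true := by decide +kernel

theorem rows9_ok : rowsOK rels paths9 rows9 = true := by decide +kernel

theorem rows10_ok : rowsOK rels paths10 rows10 = true := by decide +kernel

theorem rows11_ok : rowsOK rels paths11 rows11 = true := by decide +kernel

end CfsgLib.SchurCoTwo.P2
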