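import Cfsg.Agent.Lib.Schur.CoTwo.Rows2_0
import Cfsg.Agent.Lib.Schur.CoTwo.Rows2_1
import Cfsg.Agent.Lib.Schur.CoTwo.Rows2_2
import Cfsg.Agent.Lib.Schur.CoTwo.Rows2_3
import Cfsg.Agent.Lib.Schur.CoTwo.Letters2_0
import Cfsg.Agent.Lib.Schur.CoTwo.Letters2_1
import Cfsg.Agent.Lib.Schur.CoTwo.Letters2_2
import Cfsg.Agent.Lib.Schur.CoTwo.Letters2_3
import Cfsg.Agent.Lib.Schur.CoTwo.Letters2_4
import Cfsg.Agent.Lib.Schur.CoTwo.Letters2_5

/-! Kernel checks at the prime 2. -/

set_option autoImplicit false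
set_option maxRecDepth 100000

namespace CfsgLib.SchurCoTwo.P2

theorem check_ok : CfsgLib.SchurPath.maskCheck cert mus combs rowsAll = true := by decide +kernel

theorem data_ok : dataOK mats cert.rels levels 2 cert.m = true := by decide +kernel

theorem lets_ok : ∀ x ∈ mats, letOK x = true := by
  simp only [mats, List.forall_mem_cons, List.not_mem_nil, IsEmpty.forall_iff, implies_true, and_true]
  exact ⟨let0, let1, let2, let3, let4, let5, let6, let7, let8, let9, let10, let11, let12, let13, let14, let15, let16, let17, let18, let19, let20, let21, let22⟩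

theorem rows_ok : ∀ a ∈ rowsAll, CfsgLib.SchurPath.IsRow cert.rels a := by
  intro a ha
  simp only [rowsAll, List.mem_append] at ha
  rcases ha with ((((((((((((h | h) | h) | h) | h) | h) | h) | h) | h) | h) | h) | h) | h)
  · exact isRow_of_rowsOK rels _ _ rows0_ok a h
  · exact isRow_of_rowsOK rels _ _ rows1_ok a h
  · exact isRow_of_rowsOK rels _ _ rows2_ok a h
  · exact isRow_of_rowsOK rels _ _ rows3_ok a h
  · exact isRow_of_rowsOK rels _ _ rows4_ok a h
  · exact isRow_of_rowsOK rels _ _ rows5_ok a h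
  · exact isRow_of_rowsOK rels _ _ rows6_ok a h
  · exact isRow_of_rowsOK rels _ _ rows7_ok a h
  · exact isRow_of_rowsOK rels _ _ rows8_ok a h
  · exact isRow_of_rowsOK rels _ _ rows9_ok a h
  · exact isRow_of_rowsOK rels _ _ rows10_ok a h
  · exact isRow_of_rowsOK rels _ _ rows11_ok a h
  · exact isRow_of_rowsOK rels _ _ rows12_ok a h

end CfsgLib.SchurCoTwo.P2
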