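import Cfsg.Agent.Lib.Schur.CoTwo.Letters3_0
import Cfsg.Agent.Lib.Schur.CoTwo.Letters3_1
import Cfsg.Agent.Lib.Schur.CoTwo.Letters3_2

/-! Kernel checks at the prime 3. -/

set_option autoImplicit false
set_option maxRecDepth 100000

namespace CfsgLib.SchurCoTwo.P3

theorem check_ok : cert.check 3 = true := by decide +kernel

theorem data_ok : dataOK mats cert.rels levels 3 cert.m = true := by decide +kernel

theorem lets_ok : ∀ x ∈ mats, letOK x = true := by
  simp only [mats, List.forall_mem_cons, List.not_mem_nil, IsEmpty.forall_iff, implies_true, and_true]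
  exact ⟨let0, let1, let2, let3, let4, let5, let6, let7, let8, let9⟩

end CfsgLib.SchurCoTwo.P3
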