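import Cfsg.Agent.Lib.Schur.CoTwo.Check

/-! Generated certificate for the splitting over a Sylow 3-subgroup of Co2. -/

set_option autoImplicit false
set_option linter.all false
set_option maxRecDepth 100000

namespace CfsgLib.SchurCoTwo.P3

open CfsgLib.SchurPath (Rels)

def matA0 : List (List ℤ) := [[8, 0, 0, 0, 0, 0, 0, 0, 0, 0, 0, 0, 0, 0, 0, 0, 0, 0, 0, 0, 0, 0, 0, 0], [0, 0, 0, 0, 0, 0, 0, 0, 0, 0, 0, 8, 0, 0, 0, 0, 0, 0, 0, 0, 0, 0, 0, 0], [0, 0, 0, 0, 0, 0, 0, 8, 0, 0, 0, 0, 0, 0, 0, 0, 0, 0, 0, 0, 0, 0, 0, 0], [0, 0, 0, 0, 0, 0, 0, 0, 0, 0, 0, 0, 0, 0, 0, 0, 0, 0, 0, 8, 0, 0, 0, 0], [0, 8, 0, 0, 0, 0, 0, 0, 0, 0, 0, 0, 0, 0, 0, 0, 0, 0, 0, 0, 0, 0, 0, 0], [0, 0, 0, 0, 0, 8, 0, 0,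 0, 0, 0, 0, 0, 0, 0, 0, 0, 0, 0, 0, 0, 0, 0, 0], [0, 0, 0, 0, 0, 0, 0, 0, 8, 0, 0, 0, 0, 0, 0, 0, 0, 0, 0, 0, 0, 0, 0, 0], [0, 0, 0, 0, 0, 0, 0, 0, 0, 8, 0, 0, 0, 0, 0, 0, 0, 0, 0, 0, 0, 0, 0, 0], [0, 0, 0, 0, 0, 0, 0, 0, 0, 0, 0, 0, 0, 0, 0, 0, 0, 0, 0, 0, 0, 8, 0, 0], [0, 0, 8, 0, 0, 0, 0, 0, 0, 0, 0, 0, 0, 0, 0, 0, 0, 0, 0, 0, 0, 0, 0, 0], [0, 0, 0, 0, 0, 0, 0, 0, 0, 0, 0, 0, 0, 0, 0, 8, 0, 0, 0, 0, 0, 0, 0, 0], [0, 0, 0, 0, 8, 0, 0, 0, 0, 0, 0, 0, 0, 0, 0, 0, 0, 0, 0, 0, 0, 0, 0, 0], [0, 0, 0, 0, 0, 0, 0, 0, 0, 0, 0, 0, 8, 0, 0, 0, 0, 0, 0, 0, 0, 0, 0, 0], [0, 0, 0, 0, 0, 0, 0, 0, 0, 0, 8, 0, 0, 0, 0, 0, 0, 0, 0, 0, 0, 0, 0, 0], [0, 0, 0, 0, 0, 0, 0, 0, 0, 0, 0, 0, 0, 0, 8, 0, 0, 0,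 0, 0, 0, 0, 0, 0], [0, 0, 0, 0, 0, 0, 0, 0, 0, 0, 0, 0, 0, 8, 0, 0, 0, 0, 0, 0, 0, 0, 0, 0], [0, 0, 0, 0, 0, 0, 0, 0, 0, 0, 0, 0, 0, 0, 0, 0, 0, 8, 0, 0, 0, 0, 0, 0], [0, 0, 0, 0, 0, 0, 0, 0, 0, 0, 0, 0, 0, 0, 0, 0, 0, 0, 8, 0, 0, 0, 0, 0], [0, 0, 0, 0, 0, 0, 0, 0, 0, 0, 0, 0, 0, 0, 0, 0, 8, 0, 0, 0, 0, 0, 0, 0], [0, 0, 0, 0, 0, 0, 0, 0, 0, 0, 0, 0, 0, 0, 0, 0, 0, 0, 0, 0, 8, 0, 0, 0], [0, 0, 0, 8, 0, 0, 0, 0, 0, 0, 0, 0, 0, 0, 0, 0, 0, 0, 0, 0, 0, 0, 0, 0], [0, 0, 0, 0, 0, 0, 8, 0, 0, 0, 0, 0, 0, 0, 0, 0, 0, 0, 0, 0, 0, 0, 0, 0], [0, 0, 0, 0, 0, 0, 0, 0, 0, 0, 0, 0, 0, 0, 0, 0, 0, 0, 0, 0, 0, 0, 8, 0], [0, 0, 0, 0, 0, 0, 0, 0, 0, 0, 0, 0, 0, 0, 0, 0, 0, 0, 0, 0, 0, 0, 0, 8]]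

def matT0 : List (List ℤ) := [[8, 0, 0, 0, 0, 0, 0, 0, 0, 0, 0, 0, 0, 0, 0, 0, 0, 0, 0, 0, 0, 0, 0, 0], [0, 0, 0, 0, 8, 0, 0, 0, 0, 0, 0, 0, 0, 0, 0, 0, 0, 0, 0, 0, 0, 0, 0, 0], [0, 0, 0, 0, 0, 0, 0, 0, 0, 8, 0, 0, 0, 0, 0, 0, 0, 0, 0, 0, 0, 0, 0, 0], [0, 0, 0, 0, 0, 0, 0, 0, 0, 0, 0, 0, 0, 0, 0, 0, 0, 0, 0, 0, 8, 0, 0, 0], [0, 0, 0, 0, 0, 0, 0, 0, 0, 0, 0, 8, 0, 0, 0, 0, 0, 0, 0, 0, 0, 0, 0, 0], [0, 0, 0, 0, 0, 8, 0, 0, 0, 0, 0, 0, 0, 0, 0, 0, 0, 0, 0, 0, 0, 0, 0, 0], [0, 0, 0, 0, 0, 0, 0, 0, 0, 0, 0, 0, 0, 0, 0, 0, 0, 0, 0, 0, 0, 8, 0, 0], [0, 0, 8, 0, 0, 0, 0, 0, 0, 0, 0, 0, 0, 0, 0, 0, 0, 0, 0, 0, 0, 0, 0, 0], [0, 0, 0, 0, 0, 0, 8, 0, 0, 0, 0, 0, 0, 0, 0, 0, 0, 0, 0, 0, 0, 0, 0, 0],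 [0, 0, 0, 0, 0, 0, 0, 8, 0, 0, 0, 0, 0, 0, 0, 0, 0, 0, 0, 0, 0, 0, 0, 0], [0, 0, 0, 0, 0, 0, 0, 0, 0, 0, 0, 0, 0, 8, 0, 0, 0, 0, 0, 0, 0, 0, 0, 0], [0, 8, 0, 0, 0, 0, 0, 0, 0, 0, 0, 0, 0, 0, 0, 0, 0, 0, 0, 0, 0, 0, 0, 0], [0, 0, 0, 0, 0, 0, 0, 0, 0, 0, 0, 0, 8, 0, 0, 0, 0, 0, 0, 0, 0, 0, 0, 0], [0, 0, 0, 0, 0, 0, 0, 0, 0, 0, 0, 0, 0, 0, 0, 8, 0, 0, 0, 0, 0, 0, 0, 0], [0, 0, 0, 0, 0, 0, 0, 0, 0, 0, 0, 0, 0, 0, 8, 0, 0, 0, 0, 0, 0, 0, 0, 0], [0, 0, 0, 0, 0, 0, 0, 0, 0, 0, 8, 0, 0, 0, 0, 0, 0, 0, 0, 0, 0, 0, 0, 0], [0, 0, 0, 0, 0, 0, 0, 0, 0, 0, 0, 0, 0, 0, 0, 0, 0, 0, 8, 0, 0, 0, 0, 0], [0, 0, 0, 0, 0, 0, 0, 0, 0, 0, 0, 0, 0, 0, 0, 0, 8, 0, 0, 0, 0, 0, 0, 0], [0, 0, 0, 0, 0, 0, 0, 0, 0, 0,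 0, 0, 0, 0, 0, 0, 0, 8, 0, 0, 0, 0, 0, 0], [0, 0, 0, 8, 0, 0, 0, 0, 0, 0, 0, 0, 0, 0, 0, 0, 0, 0, 0, 0, 0, 0, 0, 0], [0, 0, 0, 0, 0, 0, 0, 0, 0, 0, 0, 0, 0, 0, 0, 0, 0, 0, 0, 8, 0, 0, 0, 0], [0, 0, 0, 0, 0, 0, 0, 0, 8, 0, 0, 0, 0, 0, 0, 0, 0, 0, 0, 0, 0, 0, 0, 0], [0, 0, 0, 0, 0, 0, 0, 0, 0, 0, 0, 0, 0, 0, 0, 0, 0, 0, 0, 0, 0, 0, 8, 0], [0, 0, 0, 0, 0, 0, 0, 0, 0, 0, 0, 0, 0, 0, 0, 0, 0, 0, 0, 0, 0, 0, 0, 8]]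

def matA1 : List (List ℤ) := [[6, 0, 0, 0, 0, 2, 0, 0, 0, 0, -2, 0, 0, -2, -2, -2, 0, 0, 0, 0, 0, 0, -2, 2], [0, 2, 2, -2, 2, 0, 2, 2, 2, -2, 0, 2, -2, 0, 0, 0, -2, -2, 2, 2, 2, -2, 0, 0], [0, 2, 2, 2, 2, 0, -2, 2, 2, 2, 0, -2, 2, 0, 0, 0, -2, 2, 2, -2, -2, -2, 0, 0], [0, 2, -2, 2, 2, 0, 2, -2, -2, 2, 0, -2, 2, 0, 0, 0, 2, -2, 2, 2, 2, -2, 0, 0], [0, 2, 2, 2, 2, 0, 2, -2, -2, 2, 0, 2, -2, 0, 0, 0, -2, 2, -2, 2, -2, 2, 0, 0], [0, -2, 2, 2, -2, 0, 2, 2, 2, 2, 0, -2, 2, 0, 0, 0, -2, -2, -2, 2, 2, 2, 0, 0], [0, -2, 2, 2, 2, 0, 2, -2, 2, -2, 0, 2, 2, 0, 0, 0, 2, -2, 2, -2, -2, 2, 0, 0], [0, 2, 2, -2, -2, 0, -2, 2, -2, 2, 0, 2, 2, 0, 0, 0, 2, -2, 2, 2, -2, 2, 0, 0], [0, 2, -2, -2, 2, 0, 2, 2,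 2, -2, 0, -2, 2, 0, 0, 0, 2, 2, -2, 2, -2, 2, 0, 0], [0, -2, 2, -2, 2, 0, 2, 2, -2, 2, 0, 2, 2, 0, 0, 0, 2, 2, -2, -2, 2, -2, 0, 0], [0, -2, 2, -2, 2, 0, -2, -2, 2, 2, 0, -2, -2, 0, 0, 0, 2, 2, 2, 2, 2, 2, 0, 0], [0, 2, -2, 2, 2, 0, -2, 2, 2, 2, 0, 2, -2, 0, 0, 0, 2, -2, -2, -2, 2, 2, 0, 0], [2, 0, 0, 0, 0, 6, 0, 0, 0, 0, 2, 0, 0, 2, 2, 2, 0, 0, 0, 0, 0, 0, 2, -2], [0, -2, -2, 2, -2, 0, 2, 2, 2, 2, 0, 2, -2, 0, 0, 0, 2, 2, 2, 2, -2, -2, 0, 0], [-2, 0, 0, 0, 0, 2, 0, 0, 0, 0, -2, 0, 0, -2, 6, -2, 0, 0, 0, 0, 0, 0, -2, 2], [0, 2, 2, 2, -2, 0, 2, 2, -2, -2, 0, -2, -2, 0, 0, 0, 2, 2, 2, -2, 2, 2, 0, 0], [-2, 0, 0, 0, 0, 2, 0, 0, 0, 0, -2, 0, 0, 6, -2, -2, 0, 0, 0, 0, 0, 0, -2, 2], [-2, 0, 0,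 0, 0, 2, 0, 0, 0, 0, 6, 0, 0, -2, -2, -2, 0, 0, 0, 0, 0, 0, -2, 2], [-2, 0, 0, 0, 0, 2, 0, 0, 0, 0, -2, 0, 0, -2, -2, 6, 0, 0, 0, 0, 0, 0, -2, 2], [0, 2, 2, 2, -2, 0, -2, -2, 2, -2, 0, 2, 2, 0, 0, 0, 2, 2, -2, 2, 2, -2, 0, 0], [0, -2, -2, 2, 2, 0, -2, 2, -2, -2, 0, 2, 2, 0, 0, 0, -2, 2, 2, 2, 2, 2, 0, 0], [0, 2, -2, -2, -2, 0, 2, -2, 2, 2, 0, 2, 2, 0, 0, 0, -2, 2, 2, -2, 2, 2, 0, 0], [-2, 0, 0, 0, 0, 2, 0, 0, 0, 0, -2, 0, 0, -2, -2, -2, 0, 0, 0, 0, 0, 0, 6, 2], [2, 0, 0, 0, 0, -2, 0, 0, 0, 0, 2, 0, 0, 2, 2, 2, 0, 0, 0, 0, 0, 0, 2, 6]]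

def matT1 : List (List ℤ) := [[6, 0, 0, 0, 0, 0, 0, 0, 0, 0, 0, 0, 2, 0, -2, 0, -2, -2, -2, 0, 0, 0, -2, 2], [0, 2, 2, 2, 2, -2, -2, 2, 2, -2, -2, 2, 0, -2, 0, 2, 0, 0, 0, 2, -2, 2, 0, 0], [0, 2, 2, -2, 2, 2, 2, 2, -2, 2, 2, -2, 0, -2, 0, 2, 0, 0, 0, 2, -2, -2, 0, 0], [0, -2, 2, 2, 2, 2, 2, -2, -2, -2, -2, 2, 0, 2, 0, 2, 0, 0, 0, 2, 2, -2, 0, 0], [0, 2, 2, 2, 2, -2, 2, -2, 2, 2, 2, 2, 0, -2, 0, -2, 0, 0, 0, -2, 2, -2, 0, 0], [2, 0, 0, 0, 0, 0, 0, 0, 0, 0, 0, 0, 6, 0, 2, 0, 2, 2, 2, 0, 0, 0, 2, -2], [0, 2, -2, 2, 2, 2, 2, -2, 2, 2, -2, -2, 0, 2, 0, 2, 0, 0, 0, -2, -2, 2, 0, 0], [0, 2, 2, -2, -2, 2, -2, 2, 2, 2, -2, 2, 0, 2, 0, 2, 0, 0, 0, -2, 2, -2, 0, 0], [0, 2, 2, -2, -2, 2, 2, -2, 2,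 -2, 2, 2, 0, 2, 0, -2, 0, 0, 0, 2, -2, 2, 0, 0], [0, -2, 2, 2, 2, 2, -2, 2, -2, 2, 2, 2, 0, 2, 0, -2, 0, 0, 0, -2, -2, 2, 0, 0], [-2, 0, 0, 0, 0, 0, 0, 0, 0, 0, 0, 0, 2, 0, -2, 0, -2, 6, -2, 0, 0, 0, -2, 2], [0, 2, -2, -2, 2, -2, 2, 2, -2, 2, -2, 2, 0, 2, 0, -2, 0, 0, 0, 2, 2, 2, 0, 0], [0, -2, 2, 2, -2, 2, 2, 2, 2, 2, -2, -2, 0, -2, 0, -2, 0, 0, 0, 2, 2, 2, 0, 0], [-2, 0, 0, 0, 0, 0, 0, 0, 0, 0, 0, 0, 2, 0, -2, 0, 6, -2, -2, 0, 0, 0, -2, 2], [-2, 0, 0, 0, 0, 0, 0, 0, 0, 0, 0, 0, 2, 0, 6, 0, -2, -2, -2, 0, 0, 0, -2, 2], [-2, 0, 0, 0, 0, 0, 0, 0, 0, 0, 0, 0, 2, 0, -2, 0, -2, -2, 6, 0, 0, 0, -2, 2], [0, -2, -2, 2, -2, -2, 2, 2, 2, 2, 2, 2, 0, 2, 0, 2, 0, 0, 0, 2, -2, -2, 0, 0], [0, -2, 2,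 -2, 2, -2, -2, -2, 2, 2, 2, -2, 0, 2, 0, 2, 0, 0, 0, 2, 2, 2, 0, 0], [0, 2, 2, 2, -2, -2, 2, 2, -2, -2, 2, -2, 0, 2, 0, 2, 0, 0, 0, -2, 2, 2, 0, 0], [0, 2, -2, 2, 2, 2, -2, 2, 2, -2, 2, -2, 0, 2, 0, -2, 0, 0, 0, 2, 2, -2, 0, 0], [0, 2, -2, 2, -2, 2, -2, -2, -2, 2, 2, 2, 0, -2, 0, 2, 0, 0, 0, 2, 2, 2, 0, 0], [0, -2, -2, -2, 2, 2, 2, 2, 2, -2, 2, 2, 0, -2, 0, 2, 0, 0, 0, -2, 2, 2, 0, 0], [-2, 0, 0, 0, 0, 0, 0, 0, 0, 0, 0, 0, 2, 0, -2, 0, -2, -2, -2, 0, 0, 0, 6, 2], [2, 0, 0, 0, 0, 0, 0, 0, 0, 0, 0, 0, -2, 0, 2, 0, 2, 2, 2, 0, 0, 0, 2, 6]]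

def matA2 : List (List ℤ) := [[5, -1, 1, 1, -1, -1, -1, 1, -1, 1, -1, -1, -1, -1, -3, -1, -1, -1, -1, 1, 1, -1, -1, 3], [1, -1, 1, 1, 3, -1, -1, 1, 3, 1, -1, 3, -1, 3, 1, -1, -1, 3, -1, 1, 1, -1, -1, -1], [-1, 1, -1, -1, 1, 1, 1, 3, 1, 3, 1, 1, 1, 1, -1, -3, 1, -3, 1, -1, -1, -3, 1, 1], [-1, 1, -1, -1, 1, 1, -3, -1, 1, -1, -3, 1, 1, 1, -1, 1, 1, -3, 1, 3, 3, 1, 1, 1], [1, 3, 1, 1, -1, -1, 3, 1, -1, 1, -1, 3, -1, -1, 1, 3, 3, -1, -1, 1, 1, -1, -1, -1], [1, -1, 1, 1, -1, -1, -1, 1, -1, 1, -1, -1, 3, -1, 1, -1, 3, 3, 3, 1, 1, -1, 3, -1], [-1, 1, -1, 3, -3, 1, -3, 3, 1, -1, 1, 1, 1, 1, -1, 1, 1, 1, 1, -1, -1, 1, -3, 1], [-1, 1, 3, -1, 1, 1, -3, -1, 1, 3, 1, 1, 1, -3, -1, 1, 1, 1, -3, -1, -1,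 1, 1, 1], [-1, -3, -1, -1, 1, 1, 1, -1, -3, 3, 1, 1, 1, 1, -1, 1, 1, 1, 1, 3, -1, 1, -3, 1], [-1, 1, 3, -1, 1, 1, 1, 3, -3, -1, -3, 1, 1, 1, -1, 1, -3, 1, 1, -1, -1, 1, 1, 1], [-1, 1, -1, 3, 1, 1, 1, -1, 1, 3, -3, -3, -3, 1, -1, 1, 1, 1, 1, -1, -1, 1, 1, 1], [1, 3, 1, 1, 3, -1, -1, 1, -1, 1, 3, -1, -1, -1, 1, -1, -1, -1, 3, 1, 1, 3, -1, -1], [1, -1, 1, 1, -1, 3, -1, 1, -1, 1, 3, -1, -1, 3, 1, 3, -1, -1, -1, 1, 1, -1, 3, -1], [-1, -3, -1, -1, 1, 1, 1, 3, 1, -1, 1, 1, -3, -3, -1, 1, 1, 1, 1, -1, 3, 1, 1, 1], [-3, -1, 1, 1, -1, -1, -1, 1, -1, 1, -1, -1, -1, -1, 5, -1, -1, -1, -1, 1, 1, -1, -1, 3], [-1, 1, 3, -1, -3, 1, 1, -1, 1, -1, 1, 1, -3, 1, -1, -3, 1, 1, 1, 3, -1, 1, 1, 1], [-1, 1, -1,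 -1, -3, -3, 1, -1, 1, 3, 1, 1, 1, 1, -1, 1, -3, 1, 1, -1, 3, 1, 1, 1], [-1, -3, 3, 3, 1, -3, 1, -1, 1, -1, 1, 1, 1, 1, -1, 1, 1, -3, 1, -1, -1, 1, 1, 1], [-1, 1, -1, -1, 1, -3, 1, 3, 1, -1, 1, -3, 1, 1, -1, 1, 1, 1, -3, 3, -1, 1, 1, 1], [-1, 1, -1, 3, 1, 1, 1, -1, -3, -1, 1, 1, 1, 1, -1, -3, 1, 1, -3, -1, 3, 1, 1, 1], [-1, 1, -1, 3, 1, 1, 1, -1, 1, -1, 1, 1, 1, -3, -1, 1, -3, 1, 1, 3, -1, -3, 1, 1], [-1, 1, 3, -1, 1, 1, 1, -1, 1, -1, 1, -3, 1, 1, -1, 1, 1, 1, 1, -1, 3, -3, -3, 1], [1, -1, 1, 1, -1, 3, 3, 1, 3, 1, -1, -1, 3, -1, 1, -1, -1, -1, -1, 1, 1, 3, -1, -1], [3, 1, -1, -1, 1, 1, 1, -1, 1, -1, 1, 1, 1, 1, 3, 1, 1, 1, 1, -1, -1, 1, 1, 5]]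

def matT2 : List (List ℤ) := [[5, 1, -1, -1, 1, 1, -1, -1, -1, -1, -1, 1, 1, -1, -3, -1, -1, -1, -1, -1, -1, -1, 1, 3], [-1, -1, 1, 1, 3, -1, 1, 1, -3, 1, 1, 3, -1, -3, -1, 1, 1, -3, 1, 1, 1, 1, -1, 1], [1, 1, -1, -1, 1, 1, -1, 3, -1, 3, -1, 1, 1, -1, 1, 3, -1, 3, -1, -1, -1, 3, 1, -1], [1, 1, -1, -1, 1, 1, 3, -1, -1, -1, 3, 1, 1, -1, 1, -1, -1, 3, -1, 3, 3, -1, 1, -1], [-1, 3, 1, 1, -1, -1, -3, 1, 1, 1, 1, 3, -1, 1, -1, -3, -3, 1, 1, 1, 1, 1, -1, 1], [-1, -1, 1, 1, -1, -1, 1, 1, 1, 1, 1, -1, 3, 1, -1, 1, -3, -3, -3, 1, 1, 1, 3, 1], [-1, -1, 1, -3, 3, -1, -3, -3, 1, 1, 1, -1, -1, 1, -1, 1, 1, 1, 1, 1, 1, 1, 3, 1], [1, 1, 3, -1, 1, 1, 3, -1, -1, 3, -1, 1, 1, 3, 1, -1, -1, -1, 3, -1, -1,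 -1, 1, -1], [-1, 3, 1, 1, -1, -1, 1, 1, -3, -3, 1, -1, -1, 1, -1, 1, 1, 1, 1, -3, 1, 1, 3, 1], [1, 1, 3, -1, 1, 1, -1, 3, 3, -1, 3, 1, 1, -1, 1, -1, 3, -1, -1, -1, -1, -1, 1, -1], [-1, -1, 1, -3, -1, -1, 1, 1, 1, -3, -3, 3, 3, 1, -1, 1, 1, 1, 1, 1, 1, 1, -1, 1], [-1, 3, 1, 1, 3, -1, 1, 1, 1, 1, -3, -1, -1, 1, -1, 1, 1, 1, -3, 1, 1, -3, -1, 1], [-1, -1, 1, 1, -1, 3, 1, 1, 1, 1, -3, -1, -1, -3, -1, -3, 1, 1, 1, 1, 1, 1, 3, 1], [-1, 3, 1, 1, -1, -1, 1, -3, 1, 1, 1, -1, 3, -3, -1, 1, 1, 1, 1, 1, -3, 1, -1, 1], [-3, 1, -1, -1, 1, 1, -1, -1, -1, -1, -1, 1, 1, -1, 5, -1, -1, -1, -1, -1, -1, -1, 1, 3], [-1, -1, -3, 1, 3, -1, 1, 1, 1, 1, 1, -1, 3, 1, -1, -3, 1, 1, 1, -3, 1, 1, -1, 1], [-1, -1, 1,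 1, 3, 3, 1, 1, 1, -3, 1, -1, -1, 1, -1, 1, -3, 1, 1, 1, -3, 1, -1, 1], [-1, 3, -3, -3, -1, 3, 1, 1, 1, 1, 1, -1, -1, 1, -1, 1, 1, -3, 1, 1, 1, 1, -1, 1], [-1, -1, 1, 1, -1, 3, 1, -3, 1, 1, 1, 3, -1, 1, -1, 1, 1, 1, -3, -3, 1, 1, -1, 1], [1, 1, -1, 3, 1, 1, -1, -1, 3, -1, -1, 1, 1, -1, 1, 3, -1, -1, 3, -1, 3, -1, 1, -1], [1, 1, -1, 3, 1, 1, -1, -1, -1, -1, -1, 1, 1, 3, 1, -1, 3, -1, -1, 3, -1, 3, 1, -1], [-1, -1, -3, 1, -1, -1, 1, 1, 1, 1, 1, 3, -1, 1, -1, 1, 1, 1, 1, 1, -3, -3, 3, 1], [-1, -1, 1, 1, -1, 3, -3, 1, -3, 1, 1, -1, 3, 1, -1, 1, 1, 1, 1, 1, 1, -3, -1, 1], [3, -1, 1, 1, -1, -1, 1, 1, 1, 1, 1, -1, -1, 1, 3, 1, 1, 1, 1, 1, 1, 1, -1, 5]]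

def matA3 : List (List ℤ) := [[6, 0, 0, 2, 0, 0, 0, 0, -2, 0, 0, 0, 0, 0, -2, -2, 0, 0, -2, 0, -2, 0, 0, 2], [0, 2, -2, 0, 2, -2, -2, 2, 0, 2, 2, 2, 2, -2, 0, 0, 2, 2, 0, 2, 0, -2, -2, 0], [0, -2, 2, 0, 2, 2, -2, 2, 0, 2, 2, 2, 2, 2, 0, 0, -2, -2, 0, -2, 0, 2, -2, 0], [2, 0, 0, 6, 0, 0, 0, 0, 2, 0, 0, 0, 0, 0, 2, 2, 0, 0, 2, 0, 2, 0, 0, -2], [0, 2, 2, 0, 2, 2, 2, -2, 0, 2, -2, 2, -2, -2, 0, 0, -2, 2, 0, 2, 0, 2, -2, 0], [0, -2, 2, 0, -2, 2, 2, -2, 0, 2, 2, 2, 2, -2, 0, 0, 2, -2, 0, 2, 0, -2, 2, 0], [0, 2, 2, 0, 2, 2, 2, -2, 0, -2, 2, -2, 2, 2, 0, 0, 2, 2, 0, -2, 0, -2, -2, 0], [0, 2, 2, 0, -2, 2, -2, 2, 0, 2, -2, 2, -2, 2, 0, 0, 2, 2, 0, -2, 0, -2, 2, 0], [0, -2, 2, 0, 2, -2, -2, -2, 0,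 2, 2, -2, -2, 2, 0, 0, 2, 2, 0, 2, 0, 2, 2, 0], [0, 2, 2, 0, 2, -2, 2, 2, 0, 2, -2, -2, 2, -2, 0, 0, 2, -2, 0, -2, 0, 2, 2, 0], [0, -2, -2, 0, 2, 2, 2, 2, 0, -2, 2, 2, -2, -2, 0, 0, 2, 2, 0, -2, 0, 2, 2, 0], [0, 2, 2, 0, 2, -2, 2, 2, 0, -2, 2, 2, -2, 2, 0, 0, -2, -2, 0, 2, 0, -2, 2, 0], [0, -2, -2, 0, 2, 2, 2, 2, 0, 2, -2, -2, 2, 2, 0, 0, -2, 2, 0, 2, 0, -2, 2, 0], [-2, 0, 0, 2, 0, 0, 0, 0, -2, 0, 0, 0, 0, 0, -2, 6, 0, 0, -2, 0, -2, 0, 0, 2], [-2, 0, 0, 2, 0, 0, 0, 0, -2, 0, 0, 0, 0, 0, 6, -2, 0, 0, -2, 0, -2, 0, 0, 2], [0, -2, 2, 0, -2, -2, 2, 2, 0, -2, -2, 2, 2, 2, 0, 0, 2, 2, 0, 2, 0, 2, -2, 0], [-2, 0, 0, 2, 0, 0, 0, 0, -2, 0, 0, 0, 0, 0, -2, -2, 0, 0, 6, 0, -2, 0, 0, 2], [0, 2, -2,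 0, -2, -2, 2, -2, 0, 2, 2, 2, 2, 2, 0, 0, -2, 2, 0, -2, 0, 2, 2, 0], [0, 2, -2, 0, -2, 2, 2, 2, 0, 2, 2, -2, -2, 2, 0, 0, 2, -2, 0, 2, 0, 2, -2, 0], [-2, 0, 0, 2, 0, 0, 0, 0, -2, 0, 0, 0, 0, 0, -2, -2, 0, 0, -2, 0, 6, 0, 0, 2], [0, 2, -2, 0, 2, 2, -2, -2, 0, -2, -2, 2, 2, 2, 0, 0, 2, -2, 0, 2, 0, 2, 2, 0], [-2, 0, 0, 2, 0, 0, 0, 0, 6, 0, 0, 0, 0, 0, -2, -2, 0, 0, -2, 0, -2, 0, 0, 2], [0, 2, 2, 0, -2, 2, -2, 2, 0, -2, 2, -2, 2, -2, 0, 0, -2, 2, 0, 2, 0, 2, 2, 0], [2, 0, 0, -2, 0, 0, 0, 0, 2, 0, 0, 0, 0, 0, 2, 2, 0, 0, 2, 0, 2, 0, 0, 6]]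

def matT3 : List (List ℤ) := [[6, 0, 0, 2, 0, 0, 0, 0, 0, 0, 0, 0, 0, -2, -2, 0, -2, 0, 0, -2, 0, -2, 0, 2], [0, 2, -2, 0, 2, -2, 2, 2, -2, 2, -2, 2, -2, 0, 0, -2, 0, 2, 2, 0, 2, 0, 2, 0], [0, -2, 2, 0, 2, 2, 2, 2, 2, 2, -2, 2, -2, 0, 0, 2, 0, -2, -2, 0, -2, 0, 2, 0], [2, 0, 0, 6, 0, 0, 0, 0, 0, 0, 0, 0, 0, 2, 2, 0, 2, 0, 0, 2, 0, 2, 0, -2], [0, 2, 2, 0, 2, -2, 2, -2, 2, 2, 2, 2, 2, 0, 0, -2, 0, -2, -2, 0, 2, 0, -2, 0], [0, -2, 2, 0, 2, 2, 2, 2, -2, -2, 2, -2, 2, 0, 0, -2, 0, -2, 2, 0, 2, 0, 2, 0], [0, -2, -2, 0, 2, 2, 2, -2, -2, 2, 2, 2, 2, 0, 0, 2, 0, 2, 2, 0, -2, 0, -2, 0], [0, 2, 2, 0, -2, -2, -2, 2, -2, 2, 2, 2, 2, 0, 0, 2, 0, -2, 2, 0, -2, 0, 2, 0], [-2, 0, 0, 2, 0, 0, 0, 0, 0, 0,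 0, 0, 0, -2, -2, 0, -2, 0, 0, -2, 0, 6, 0, 2], [0, 2, 2, 0, 2, 2, -2, 2, 2, 2, -2, -2, 2, 0, 0, -2, 0, 2, 2, 0, -2, 0, -2, 0], [0, 2, 2, 0, -2, 2, 2, -2, 2, -2, 2, 2, -2, 0, 0, -2, 0, 2, 2, 0, -2, 0, 2, 0], [0, 2, 2, 0, 2, 2, -2, 2, -2, -2, 2, 2, -2, 0, 0, 2, 0, 2, -2, 0, 2, 0, -2, 0], [0, 2, 2, 0, -2, 2, 2, -2, -2, 2, -2, -2, 2, 0, 0, 2, 0, 2, -2, 0, 2, 0, 2, 0], [0, -2, 2, 0, -2, -2, 2, 2, 2, -2, -2, 2, 2, 0, 0, 2, 0, 2, 2, 0, 2, 0, -2, 0], [-2, 0, 0, 2, 0, 0, 0, 0, 0, 0, 0, 0, 0, -2, 6, 0, -2, 0, 0, -2, 0, -2, 0, 2], [-2, 0, 0, 2, 0, 0, 0, 0, 0, 0, 0, 0, 0, 6, -2, 0, -2, 0, 0, -2, 0, -2, 0, 2], [0, 2, -2, 0, -2, 2, 2, 2, 2, 2, 2, -2, -2, 0, 0, 2, 0, -2, 2, 0, 2, 0, -2, 0], [0, 2, -2,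 0, 2, -2, 2, 2, 2, -2, 2, -2, 2, 0, 0, 2, 0, 2, -2, 0, -2, 0, 2, 0], [-2, 0, 0, 2, 0, 0, 0, 0, 0, 0, 0, 0, 0, -2, -2, 0, 6, 0, 0, -2, 0, -2, 0, 2], [0, 2, -2, 0, 2, 2, -2, -2, 2, -2, -2, 2, 2, 0, 0, 2, 0, -2, 2, 0, 2, 0, 2, 0], [-2, 0, 0, 2, 0, 0, 0, 0, 0, 0, 0, 0, 0, -2, -2, 0, -2, 0, 0, 6, 0, -2, 0, 2], [0, -2, 2, 0, 2, -2, -2, -2, 2, 2, 2, -2, -2, 0, 0, 2, 0, 2, 2, 0, 2, 0, 2, 0], [0, -2, -2, 0, -2, 2, -2, 2, 2, 2, 2, 2, 2, 0, 0, -2, 0, 2, -2, 0, 2, 0, 2, 0], [2, 0, 0, -2, 0, 0, 0, 0, 0, 0, 0, 0, 0, 2, 2, 0, 2, 0, 0, 2, 0, 2, 0, 6]]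

def matA4 : List (List ℤ) := [[6, 0, 0, 0, 0, 0, 0, 0, 0, 0, 0, 0, -2, 0, -2, 0, -2, -2, -2, 0, 0, 0, 2, 2], [0, 2, 2, 2, 2, -2, 2, 2, -2, -2, 2, 2, 0, 2, 0, -2, 0, 0, 0, 2, -2, -2, 0, 0], [0, 2, 2, -2, 2, 2, -2, 2, 2, 2, -2, -2, 0, 2, 0, -2, 0, 0, 0, 2, -2, 2, 0, 0], [0, -2, 2, 2, 2, 2, -2, -2, 2, -2, 2, 2, 0, -2, 0, -2, 0, 0, 0, 2, 2, 2, 0, 0], [0, 2, 2, 2, 2, -2, -2, -2, -2, 2, -2, 2, 0, 2, 0, 2, 0, 0, 0, -2, 2, 2, 0, 0], [-2, 0, 0, 0, 0, 0, 0, 0, 0, 0, 0, 0, 6, 0, -2, 0, -2, -2, -2, 0, 0, 0, 2, 2], [0, -2, 2, -2, -2, -2, 2, 2, 2, -2, -2, 2, 0, 2, 0, 2, 0, 0, 0, 2, 2, 2, 0, 0], [0, 2, 2, -2, -2, 2, 2, 2, -2, 2, 2, 2, 0, -2, 0, -2, 0, 0, 0, -2, 2, 2, 0, 0], [0, -2, -2, 2, 2, -2, 2, 2,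 2, 2, 2, -2, 0, 2, 0, -2, 0, 0, 0, -2, 2, 2, 0, 0], [0, -2, 2, 2, 2, 2, 2, 2, 2, 2, -2, 2, 0, -2, 0, 2, 0, 0, 0, -2, -2, -2, 0, 0], [-2, 0, 0, 0, 0, 0, 0, 0, 0, 0, 0, 0, -2, 0, -2, 0, -2, 6, -2, 0, 0, 0, 2, 2], [0, 2, -2, -2, 2, -2, -2, 2, 2, 2, 2, 2, 0, -2, 0, 2, 0, 0, 0, 2, 2, -2, 0, 0], [0, -2, 2, 2, -2, 2, -2, 2, -2, 2, 2, -2, 0, 2, 0, 2, 0, 0, 0, 2, 2, -2, 0, 0], [-2, 0, 0, 0, 0, 0, 0, 0, 0, 0, 0, 0, -2, 0, -2, 0, 6, -2, -2, 0, 0, 0, 2, 2], [-2, 0, 0, 0, 0, 0, 0, 0, 0, 0, 0, 0, -2, 0, 6, 0, -2, -2, -2, 0, 0, 0, 2, 2], [-2, 0, 0, 0, 0, 0, 0, 0, 0, 0, 0, 0, -2, 0, -2, 0, -2, -2, 6, 0, 0, 0, 2, 2], [0, 2, 2, -2, 2, 2, 2, -2, 2, -2, 2, -2, 0, 2, 0, 2, 0, 0, 0, -2, 2, -2, 0, 0], [0, 2, -2,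 2, -2, 2, -2, 2, 2, -2, 2, 2, 0, 2, 0, 2, 0, 0, 0, -2, -2, 2, 0, 0], [0, -2, -2, -2, 2, 2, 2, -2, -2, 2, 2, 2, 0, 2, 0, 2, 0, 0, 0, 2, -2, 2, 0, 0], [0, 2, -2, 2, 2, 2, 2, 2, -2, -2, -2, -2, 0, -2, 0, 2, 0, 0, 0, 2, 2, 2, 0, 0], [0, 2, -2, 2, -2, 2, 2, -2, 2, 2, -2, 2, 0, 2, 0, -2, 0, 0, 0, 2, 2, -2, 0, 0], [0, 2, 2, 2, -2, -2, 2, -2, 2, 2, 2, -2, 0, -2, 0, 2, 0, 0, 0, 2, -2, 2, 0, 0], [2, 0, 0, 0, 0, 0, 0, 0, 0, 0, 0, 0, 2, 0, 2, 0, 2, 2, 2, 0, 0, 0, 6, -2], [2, 0, 0, 0, 0, 0, 0, 0, 0, 0, 0, 0, 2, 0, 2, 0, 2, 2, 2, 0, 0, 0, -2, 6]]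

def matT4 : List (List ℤ) := [[6, 0, 0, 0, 0, -2, 0, 0, 0, 0, -2, 0, 0, -2, -2, -2, 0, 0, 0, 0, 0, 0, 2, 2], [0, 2, 2, -2, 2, 0, -2, 2, -2, -2, 0, 2, -2, 0, 0, 0, 2, 2, -2, 2, 2, 2, 0, 0], [0, 2, 2, 2, 2, 0, 2, 2, -2, 2, 0, -2, 2, 0, 0, 0, 2, -2, -2, -2, -2, 2, 0, 0], [0, 2, -2, 2, 2, 0, -2, -2, 2, 2, 0, -2, 2, 0, 0, 0, -2, 2, -2, 2, 2, 2, 0, 0], [0, 2, 2, 2, 2, 0, -2, -2, 2, 2, 0, 2, -2, 0, 0, 0, 2, -2, 2, 2, -2, -2, 0, 0], [0, -2, 2, 2, -2, 0, -2, 2, -2, 2, 0, -2, 2, 0, 0, 0, 2, 2, 2, 2, 2, -2, 0, 0], [0, 2, -2, -2, -2, 0, 2, 2, 2, 2, 0, -2, -2, 0, 0, 0, 2, -2, 2, 2, 2, 2, 0, 0], [0, 2, 2, -2, -2, 0, 2, 2, 2, 2, 0, 2, 2, 0, 0, 0, -2, 2, -2, 2, -2, -2, 0, 0], [0, -2, 2, 2, -2, 0, 2, -2,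 2, 2, 0, 2, -2, 0, 0, 0, 2, 2, -2, -2, 2, 2, 0, 0], [0, -2, 2, -2, 2, 0, -2, 2, 2, 2, 0, 2, 2, 0, 0, 0, -2, -2, 2, -2, 2, 2, 0, 0], [0, 2, -2, 2, -2, 0, -2, 2, 2, -2, 0, 2, 2, 0, 0, 0, 2, 2, 2, -2, -2, 2, 0, 0], [0, 2, -2, 2, 2, 0, 2, 2, -2, 2, 0, 2, -2, 0, 0, 0, -2, 2, 2, -2, 2, -2, 0, 0], [-2, 0, 0, 0, 0, 6, 0, 0, 0, 0, -2, 0, 0, -2, -2, -2, 0, 0, 0, 0, 0, 0, 2, 2], [0, 2, 2, -2, 2, 0, 2, -2, 2, -2, 0, -2, 2, 0, 0, 0, 2, 2, 2, -2, 2, -2, 0, 0], [-2, 0, 0, 0, 0, -2, 0, 0, 0, 0, -2, 0, 0, -2, 6, -2, 0, 0, 0, 0, 0, 0, 2, 2], [0, -2, -2, -2, 2, 0, 2, -2, -2, 2, 0, 2, 2, 0, 0, 0, 2, 2, 2, 2, -2, 2, 0, 0], [-2, 0, 0, 0, 0, -2, 0, 0, 0, 0, -2, 0, 0, 6, -2, -2, 0, 0, 0, 0, 0, 0, 2, 2], [-2, 0,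 0, 0, 0, -2, 0, 0, 0, 0, 6, 0, 0, -2, -2, -2, 0, 0, 0, 0, 0, 0, 2, 2], [-2, 0, 0, 0, 0, -2, 0, 0, 0, 0, -2, 0, 0, -2, -2, 6, 0, 0, 0, 0, 0, 0, 2, 2], [0, 2, 2, 2, -2, 0, 2, -2, -2, -2, 0, 2, 2, 0, 0, 0, -2, -2, 2, 2, 2, 2, 0, 0], [0, -2, -2, 2, 2, 0, 2, 2, 2, -2, 0, 2, 2, 0, 0, 0, 2, -2, -2, 2, 2, -2, 0, 0], [0, -2, 2, 2, 2, 0, 2, 2, 2, -2, 0, -2, -2, 0, 0, 0, -2, 2, 2, 2, -2, 2, 0, 0], [2, 0, 0, 0, 0, 2, 0, 0, 0, 0, 2, 0, 0, 2, 2, 2, 0, 0, 0, 0, 0, 0, 6, -2], [2, 0, 0, 0, 0, 2, 0, 0, 0, 0, 2, 0, 0, 2, 2, 2, 0, 0, 0, 0, 0, 0, -2, 6]]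

def matA5 : List (List ℤ) := [[5, 1, 1, -1, -1, -1, -1, -1, -1, 1, -1, -1, 1, -1, -3, -1, 1, -1, -1, -1, -1, 1, -1, 3], [-1, -1, 3, 1, 1, 1, -3, 1, 1, 3, 1, 1, -1, -3, -1, 1, -1, 1, -3, 1, 1, -1, 1, 1], [-1, 3, -1, 1, 1, 1, 1, 1, -3, 3, 1, 1, -1, 1, -1, 1, -1, 1, 1, -3, 1, -1, -3, 1], [-1, -1, -1, -3, 1, 1, 1, 1, 1, 3, -3, -3, 3, 1, -1, 1, -1, 1, 1, 1, 1, -1, 1, 1], [1, 1, 1, -1, -1, 3, -1, 3, -1, 1, -1, 3, 1, -1, 1, -1, 1, -1, 3, 3, -1, 1, -1, -1], [-1, -1, -1, 1, -3, -3, 1, 1, 1, 3, 1, 1, -1, 1, -1, 1, 3, 1, 1, 1, -3, -1, 1, 1], [-1, 3, -1, 1, 1, 1, -3, 1, 1, -1, 1, -3, -1, 1, -1, -3, 3, 1, 1, 1, 1, -1, 1, 1], [1, 1, 1, -1, 3, -1, -1, -1, 3, 1, -1, 3, 1, 3, 1, -1, 1, 3, -1, -1, -1, 1,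 -1, -1], [-1, -1, 3, 1, 1, 1, 1, -3, -3, -1, -3, 1, -1, 1, -1, 1, 3, 1, 1, 1, 1, -1, 1, 1], [-1, 3, 3, -3, 1, -3, 1, 1, 1, -1, 1, 1, -1, 1, -1, 1, -1, -3, 1, 1, 1, -1, 1, 1], [1, 1, 1, 3, -1, -1, -1, -1, 3, 1, -1, -1, 1, -1, 1, 3, 1, -1, 3, -1, 3, 1, -1, -1], [1, 1, 1, 3, 3, -1, 3, 3, -1, 1, -1, -1, 1, -1, 1, -1, 1, -1, -1, -1, -1, 1, 3, -1], [-1, -1, -1, -3, 1, 1, 1, 1, 1, -1, 1, 1, -1, -3, -1, 1, 3, 1, 1, -3, 1, 3, 1, 1], [-1, 3, -1, 1, 1, 1, 1, -3, 1, -1, 1, 1, 3, -3, -1, 1, -1, 1, 1, 1, -3, -1, 1, 1], [-3, 1, 1, -1, -1, -1, -1, -1, -1, 1, -1, -1, 1, -1, 5, -1, 1, -1, -1, -1, -1, 1, -1, 3], [1, 1, 1, -1, -1, -1, 3, -1, -1, 1, 3, -1, 1, -1, 1, -1, 1, 3, -1, 3, 3, 1, -1, -1], [-1, -1, -1,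 1, 1, -3, -3, 1, -3, -1, 1, 1, 3, 1, -1, 1, -1, 1, 1, 1, 1, 3, 1, 1], [-1, -1, -1, 1, 1, 1, 1, -3, 1, 3, 1, 1, -1, 1, -1, -3, -1, -3, 1, 1, 1, 3, 1, 1], [-1, 3, -1, 1, -3, 1, 1, 1, 1, -1, -3, 1, -1, 1, -1, 1, -1, 1, -3, 1, 1, 3, 1, 1], [-1, -1, 3, 1, -3, 1, 1, 1, 1, -1, 1, 1, 3, 1, -1, -3, -1, 1, 1, -3, 1, -1, 1, 1], [1, 1, 1, -1, -1, 3, -1, -1, -1, 1, 3, -1, 1, 3, 1, 3, 1, -1, -1, -1, -1, 1, 3, -1], [-1, -1, -1, 1, 1, 1, 1, 1, 1, -1, 1, 1, 3, 1, -1, 1, 3, -3, -3, 1, 1, -1, -3, 1], [-1, -1, 3, 1, 1, 1, 1, 1, 1, -1, 1, -3, -1, 1, -1, 1, -1, 1, 1, 1, -3, 3, -3, 1], [3, -1, -1, 1, 1, 1, 1, 1, 1, -1, 1, 1, -1, 1, 3, 1, -1, 1, 1, 1, 1, -1, 1, 5]]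

def matT5 : List (List ℤ) := [[5, -1, -1, -1, 1, -1, -1, 1, -1, -1, 1, 1, -1, -1, -3, 1, -1, -1, -1, -1, 1, -1, -1, 3], [1, -1, 3, -1, 1, -1, 3, 1, -1, 3, 1, 1, -1, 3, 1, 1, -1, -1, 3, -1, 1, -1, -1, -1], [1, 3, -1, -1, 1, -1, -1, 1, 3, 3, 1, 1, -1, -1, 1, 1, -1, -1, -1, 3, 1, -1, 3, -1], [-1, 1, 1, -3, -1, 1, 1, -1, 1, -3, 3, 3, -3, 1, -1, -1, 1, 1, 1, 1, -1, 1, 1, 1], [-1, 1, 1, 1, -1, -3, 1, 3, 1, 1, -1, 3, 1, 1, -1, -1, 1, 1, -3, -3, -1, 1, 1, 1], [-1, 1, 1, 1, 3, -3, 1, -1, 1, -3, -1, -1, 1, 1, -1, -1, -3, 1, 1, 1, 3, 1, 1, 1], [-1, -3, 1, 1, -1, 1, -3, -1, 1, 1, -1, 3, 1, 1, -1, 3, -3, 1, 1, 1, -1, 1, 1, 1], [-1, 1, 1, 1, 3, 1, 1, -1, -3, 1, -1, 3, 1, -3, -1, -1, 1, -3, 1, 1, -1,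 1, 1, 1], [-1, 1, -3, 1, -1, 1, 1, 3, -3, 1, 3, -1, 1, 1, -1, -1, -3, 1, 1, 1, -1, 1, 1, 1], [1, 3, 3, 3, 1, 3, -1, 1, -1, -1, 1, 1, -1, -1, 1, 1, -1, 3, -1, -1, 1, -1, -1, -1], [-1, 1, 1, -3, -1, 1, 1, -1, -3, 1, -1, -1, 1, 1, -1, 3, 1, 1, -3, 1, 3, 1, 1, 1], [-1, 1, 1, -3, 3, 1, -3, 3, 1, 1, -1, -1, 1, 1, -1, -1, 1, 1, 1, 1, -1, 1, -3, 1], [1, -1, -1, 3, 1, -1, -1, 1, -1, -1, 1, 1, -1, 3, 1, 1, 3, -1, -1, 3, 1, 3, -1, -1], [-1, -3, 1, 1, -1, 1, 1, 3, 1, 1, -1, -1, -3, -3, -1, -1, 1, 1, 1, 1, 3, 1, 1, 1], [-3, -1, -1, -1, 1, -1, -1, 1, -1, -1, 1, 1, -1, -1, 5, 1, -1, -1, -1, -1, 1, -1, -1, 3], [-1, 1, 1, 1, -1, 1, -3, -1, 1, 1, 3, -1, 1, 1, -1, -1, 1, -3, 1, -3, 3, 1, 1, 1], [1, -1, -1,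 -1, 1, 3, 3, 1, 3, -1, 1, 1, 3, -1, 1, 1, -1, -1, -1, -1, 1, 3, -1, -1], [-1, 1, 1, 1, -1, 1, 1, 3, 1, -3, -1, -1, 1, 1, -1, 3, 1, -3, 1, 1, -1, -3, 1, 1], [-1, -3, 1, 1, 3, 1, 1, -1, 1, 1, 3, -1, 1, 1, -1, -1, 1, 1, -3, 1, -1, -3, 1, 1], [-1, 1, -3, 1, 3, 1, 1, -1, 1, 1, -1, -1, -3, 1, -1, 3, 1, 1, 1, -3, -1, 1, 1, 1], [-1, 1, 1, 1, -1, -3, 1, -1, 1, 1, 3, -1, 1, -3, -1, 3, 1, 1, 1, 1, -1, 1, -3, 1], [1, -1, -1, -1, 1, -1, -1, 1, -1, -1, 1, 1, 3, -1, 1, 1, 3, 3, 3, -1, 1, -1, 3, -1], [-1, 1, -3, 1, -1, 1, 1, -1, 1, 1, -1, 3, 1, 1, -1, -1, 1, 1, 1, 1, 3, -3, -3, 1], [3, 1, 1, 1, -1, 1, 1, -1, 1, 1, -1, -1, 1, 1, 3, -1, 1, 1, 1, 1, -1, 1, 1, 5]]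

def matA6 : List (List ℤ) := [[6, 0, 2, 0, -2, 0, 0, 0, 0, 0, 0, 0, -2, 0, -2, -2, 0, 0, 0, -2, 0, 0, 0, 2], [0, 2, 0, -2, 0, 2, 2, 2, -2, 2, 2, 2, 0, -2, 0, 0, -2, -2, -2, 0, 2, 2, 2, 0], [0, 2, 0, -2, 0, -2, -2, 2, 2, 2, 2, 2, 0, -2, 0, 0, 2, 2, 2, 0, 2, -2, -2, 0], [-2, 0, 2, 0, -2, 0, 0, 0, 0, 0, 0, 0, 6, 0, -2, -2, 0, 0, 0, -2, 0, 0, 0, 2], [0, 2, 0, 2, 0, 2, -2, 2, -2, 2, -2, 2, 0, 2, 0, 0, 2, 2, -2, 0, -2, -2, 2, 0], [0, -2, 0, -2, 0, 2, 2, -2, -2, 2, 2, 2, 0, 2, 0, 0, 2, 2, 2, 0, -2, 2, -2, 0], [0, -2, 0, 2, 0, -2, 2, -2, 2, 2, -2, 2, 0, -2, 0, 0, 2, 2, -2, 0, 2, 2, 2, 0], [0, 2, 0, 2, 0, -2, 2, 2, 2, 2, -2, 2, 0, 2, 0, 0, -2, -2, 2, 0, -2, 2, -2, 0], [0, 2, 0, 2, 0, 2, -2, -2,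 2, 2, 2, -2, 0, 2, 0, 0, -2, 2, -2, 0, 2, 2, -2, 0], [-2, 0, 2, 0, 6, 0, 0, 0, 0, 0, 0, 0, -2, 0, -2, -2, 0, 0, 0, -2, 0, 0, 0, 2], [-2, 0, 2, 0, -2, 0, 0, 0, 0, 0, 0, 0, -2, 0, -2, -2, 0, 0, 0, 6, 0, 0, 0, 2], [2, 0, 6, 0, 2, 0, 0, 0, 0, 0, 0, 0, 2, 0, 2, 2, 0, 0, 0, 2, 0, 0, 0, -2], [-2, 0, 2, 0, -2, 0, 0, 0, 0, 0, 0, 0, -2, 0, -2, 6, 0, 0, 0, -2, 0, 0, 0, 2], [0, 2, 0, 2, 0, 2, 2, -2, 2, -2, 2, 2, 0, -2, 0, 0, -2, 2, 2, 0, -2, -2, 2, 0], [-2, 0, 2, 0, -2, 0, 0, 0, 0, 0, 0, 0, -2, 0, 6, -2, 0, 0, 0, -2, 0, 0, 0, 2], [0, 2, 0, -2, 0, 2, -2, -2, 2, -2, -2, 2, 0, 2, 0, 0, 2, -2, 2, 0, 2, 2, 2, 0], [0, -2, 0, 2, 0, -2, -2, 2, -2, -2, 2, 2, 0, 2, 0, 0, -2, 2, 2, 0, 2, 2, 2, 0], [0, 2, 0, 2,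 0, 2, 2, 2, -2, -2, -2, -2, 0, -2, 0, 0, 2, 2, 2, 0, 2, 2, -2, 0], [0, 2, 0, 2, 0, -2, 2, -2, -2, 2, 2, -2, 0, 2, 0, 0, 2, -2, 2, 0, 2, -2, 2, 0], [0, -2, 0, -2, 0, 2, 2, 2, 2, 2, -2, -2, 0, 2, 0, 0, -2, 2, 2, 0, 2, -2, 2, 0], [0, -2, 0, 2, 0, 2, -2, 2, 2, 2, 2, -2, 0, -2, 0, 0, 2, -2, 2, 0, -2, 2, 2, 0], [0, -2, 0, 2, 0, 2, 2, 2, 2, -2, 2, 2, 0, 2, 0, 0, 2, -2, -2, 0, 2, -2, -2, 0], [0, 2, 0, -2, 0, -2, 2, 2, 2, -2, 2, -2, 0, 2, 0, 0, 2, 2, -2, 0, -2, 2, 2, 0], [2, 0, -2, 0, 2, 0, 0, 0, 0, 0, 0, 0, 2, 0, 2, 2, 0, 0, 0, 2, 0, 0, 0, 6]]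

def matT6 : List (List ℤ) := [[6, 0, 0, -2, 0, 0, 0, 0, 0, -2, -2, 2, -2, 0, -2, 0, 0, 0, 0, 0, 0, 0, 0, 2], [0, 2, 2, 0, 2, -2, -2, 2, 2, 0, 0, 0, 0, 2, 0, 2, -2, 2, 2, -2, -2, -2, 2, 0], [2, 0, 0, 2, 0, 0, 0, 0, 0, 2, 2, 6, 2, 0, 2, 0, 0, 0, 0, 0, 0, 0, 0, -2], [0, -2, -2, 0, 2, -2, 2, 2, 2, 0, 0, 0, 0, 2, 0, -2, 2, 2, 2, -2, 2, 2, -2, 0], [-2, 0, 0, -2, 0, 0, 0, 0, 0, 6, -2, 2, -2, 0, -2, 0, 0, 0, 0, 0, 0, 0, 0, 2], [0, 2, -2, 0, 2, 2, -2, -2, 2, 0, 0, 0, 0, 2, 0, 2, -2, 2, -2, 2, 2, 2, -2, 0], [0, 2, -2, 0, -2, 2, 2, 2, -2, 0, 0, 0, 0, 2, 0, -2, -2, 2, 2, 2, -2, 2, 2, 0], [0, 2, 2, 0, 2, -2, -2, 2, -2, 0, 0, 0, 0, -2, 0, -2, 2, 2, -2, 2, 2, 2, 2, 0], [0, -2, 2, 0, -2, -2, 2, 2, 2, 0,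 0, 0, 0, 2, 0, 2, -2, -2, -2, 2, 2, 2, 2, 0], [0, 2, 2, 0, 2, 2, 2, 2, 2, 0, 0, 0, 0, -2, 0, -2, -2, -2, 2, 2, 2, -2, -2, 0], [0, 2, 2, 0, -2, 2, -2, -2, 2, 0, 0, 0, 0, 2, 0, -2, 2, -2, 2, -2, 2, 2, 2, 0], [0, 2, 2, 0, 2, 2, 2, 2, -2, 0, 0, 0, 0, 2, 0, 2, 2, -2, -2, -2, -2, 2, -2, 0], [-2, 0, 0, 6, 0, 0, 0, 0, 0, -2, -2, 2, -2, 0, -2, 0, 0, 0, 0, 0, 0, 0, 0, 2], [0, -2, -2, 0, 2, 2, -2, 2, 2, 0, 0, 0, 0, -2, 0, 2, 2, -2, 2, 2, -2, 2, 2, 0], [-2, 0, 0, -2, 0, 0, 0, 0, 0, -2, -2, 2, -2, 0, 6, 0, 0, 0, 0, 0, 0, 0, 0, 2], [-2, 0, 0, -2, 0, 0, 0, 0, 0, -2, -2, 2, 6, 0, -2, 0, 0, 0, 0, 0, 0, 0, 0, 2], [0, -2, 2, 0, 2, 2, 2, -2, -2, 0, 0, 0, 0, -2, 0, 2, -2, 2, 2, -2, 2, 2, 2, 0], [0, -2, 2, 0,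 2, 2, 2, -2, 2, 0, 0, 0, 0, 2, 0, -2, 2, 2, -2, 2, -2, -2, 2, 0], [0, -2, 2, 0, -2, 2, -2, 2, -2, 0, 0, 0, 0, 2, 0, 2, 2, 2, 2, 2, 2, -2, -2, 0], [-2, 0, 0, -2, 0, 0, 0, 0, 0, -2, 6, 2, -2, 0, -2, 0, 0, 0, 0, 0, 0, 0, 0, 2], [0, 2, 2, 0, -2, -2, 2, -2, 2, 0, 0, 0, 0, -2, 0, 2, 2, 2, 2, 2, -2, 2, -2, 0], [0, 2, -2, 0, -2, 2, 2, 2, 2, 0, 0, 0, 0, -2, 0, 2, 2, 2, -2, -2, 2, -2, 2, 0], [0, 2, -2, 0, 2, -2, 2, -2, -2, 0, 0, 0, 0, 2, 0, 2, 2, -2, 2, 2, 2, -2, 2, 0], [2, 0, 0, 2, 0, 0, 0, 0, 0, 2, 2, -2, 2, 0, 2, 0, 0, 0, 0, 0, 0, 0, 0, 6]]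

def matA7 : List (List ℤ) := [[6, 0, -2, 0, 0, 0, 0, 0, 0, 0, 0, 2, 0, 0, -2, 0, 0, 0, 0, 0, -2, -2, -2, 2], [0, 2, 0, -2, 2, -2, 2, 2, 2, 2, -2, 0, 2, -2, 0, 2, 2, -2, 2, -2, 0, 0, 0, 0], [0, 2, 0, -2, 2, 2, 2, 2, 2, 2, 2, 0, -2, 2, 0, -2, -2, 2, -2, -2, 0, 0, 0, 0], [0, 2, 0, 2, -2, 2, -2, -2, 2, 2, 2, 0, 2, 2, 0, -2, 2, -2, 2, -2, 0, 0, 0, 0], [0, 2, 0, 2, 2, -2, -2, 2, -2, 2, 2, 0, 2, -2, 0, -2, 2, 2, -2, 2, 0, 0, 0, 0], [0, -2, 0, -2, 2, 2, 2, 2, -2, -2, 2, 0, 2, 2, 0, -2, 2, -2, 2, 2, 0, 0, 0, 0], [0, -2, 0, 2, -2, -2, 2, 2, 2, 2, 2, 0, 2, 2, 0, 2, -2, -2, -2, 2, 0, 0, 0, 0], [2, 0, 2, 0, 0, 0, 0, 0, 0, 0, 0, 6, 0, 0, 2, 0, 0, 0, 0, 0, 2, 2, 2, -2], [0, -2, 0, 2, 2, 2, -2, 2, 2, -2,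 -2, 0, 2, 2, 0, 2, 2, 2, -2, -2, 0, 0, 0, 0], [-2, 0, 6, 0, 0, 0, 0, 0, 0, 0, 0, 2, 0, 0, -2, 0, 0, 0, 0, 0, -2, -2, -2, 2], [0, -2, 0, -2, 2, -2, -2, -2, 2, 2, 2, 0, -2, 2, 0, 2, 2, 2, 2, 2, 0, 0, 0, 0], [0, 2, 0, 2, 2, 2, -2, 2, -2, 2, -2, 0, -2, 2, 0, 2, -2, -2, 2, 2, 0, 0, 0, 0], [0, 2, 0, 2, 2, 2, 2, -2, 2, -2, 2, 0, -2, -2, 0, 2, 2, -2, -2, 2, 0, 0, 0, 0], [0, 2, 0, -2, -2, 2, 2, -2, -2, 2, -2, 0, 2, 2, 0, 2, 2, 2, -2, 2, 0, 0, 0, 0], [-2, 0, -2, 0, 0, 0, 0, 0, 0, 0, 0, 2, 0, 0, 6, 0, 0, 0, 0, 0, -2, -2, -2, 2], [-2, 0, -2, 0, 0, 0, 0, 0, 0, 0, 0, 2, 0, 0, -2, 0, 0, 0, 0, 0, -2, 6, -2, 2], [0, 2, 0, 2, 2, -2, 2, -2, 2, -2, -2, 0, 2, 2, 0, -2, -2, 2, 2, 2, 0, 0, 0, 0], [-2, 0, -2, 0,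 0, 0, 0, 0, 0, 0, 0, 2, 0, 0, -2, 0, 0, 0, 0, 0, -2, -2, 6, 2], [0, 2, 0, -2, -2, 2, -2, 2, 2, -2, 2, 0, 2, -2, 0, 2, -2, 2, 2, 2, 0, 0, 0, 0], [0, -2, 0, 2, -2, 2, 2, 2, 2, 2, -2, 0, -2, -2, 0, -2, 2, 2, 2, 2, 0, 0, 0, 0], [0, 2, 0, 2, -2, -2, 2, 2, -2, -2, 2, 0, -2, 2, 0, 2, 2, 2, 2, -2, 0, 0, 0, 0], [-2, 0, -2, 0, 0, 0, 0, 0, 0, 0, 0, 2, 0, 0, -2, 0, 0, 0, 0, 0, 6, -2, -2, 2], [0, -2, 0, 2, 2, 2, 2, -2, -2, 2, 2, 0, 2, -2, 0, 2, -2, 2, 2, -2, 0, 0, 0, 0], [2, 0, 2, 0, 0, 0, 0, 0, 0, 0, 0, -2, 0, 0, 2, 0, 0, 0, 0, 0, 2, 2, 2, 6]]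

def matT7 : List (List ℤ) := [[6, 0, 0, 0, 0, 0, 0, 2, 0, -2, 0, 0, 0, 0, -2, -2, 0, -2, 0, 0, 0, -2, 0, 2], [0, 2, 2, 2, 2, -2, -2, 0, -2, 0, -2, 2, 2, 2, 0, 0, 2, 0, 2, -2, 2, 0, -2, 0], [-2, 0, 0, 0, 0, 0, 0, 2, 0, 6, 0, 0, 0, 0, -2, -2, 0, -2, 0, 0, 0, -2, 0, 2], [0, -2, -2, 2, 2, -2, 2, 0, 2, 0, -2, 2, 2, -2, 0, 0, 2, 0, -2, 2, 2, 0, 2, 0], [0, 2, 2, -2, 2, 2, -2, 0, 2, 0, 2, 2, 2, -2, 0, 0, 2, 0, -2, -2, -2, 0, 2, 0], [0, -2, 2, 2, -2, 2, -2, 0, 2, 0, -2, 2, 2, 2, 0, 0, -2, 0, 2, 2, -2, 0, 2, 0], [0, 2, 2, -2, -2, 2, 2, 0, -2, 0, -2, -2, 2, 2, 0, 0, 2, 0, -2, 2, 2, 0, 2, 0], [0, 2, 2, -2, 2, 2, 2, 0, 2, 0, -2, 2, -2, -2, 0, 0, -2, 0, 2, 2, 2, 0, -2, 0], [0, 2, 2, 2, -2, -2, 2, 0,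 2, 0, 2, -2, 2, -2, 0, 0, 2, 0, 2, 2, -2, 0, -2, 0], [0, 2, 2, 2, 2, -2, 2, 0, -2, 0, 2, 2, -2, 2, 0, 0, -2, 0, -2, 2, -2, 0, 2, 0], [0, -2, 2, 2, 2, 2, 2, 0, -2, 0, 2, -2, 2, -2, 0, 0, -2, 0, 2, -2, 2, 0, 2, 0], [2, 0, 0, 0, 0, 0, 0, 6, 0, 2, 0, 0, 0, 0, 2, 2, 0, 2, 0, 0, 0, 2, 0, -2], [0, 2, -2, 2, 2, 2, 2, 0, 2, 0, -2, -2, -2, 2, 0, 0, 2, 0, 2, -2, -2, 0, 2, 0], [0, -2, 2, 2, -2, 2, 2, 0, 2, 0, 2, 2, -2, 2, 0, 0, 2, 0, -2, -2, 2, 0, -2, 0], [-2, 0, 0, 0, 0, 0, 0, 2, 0, -2, 0, 0, 0, 0, 6, -2, 0, -2, 0, 0, 0, -2, 0, 2], [0, 2, -2, -2, -2, -2, 2, 0, 2, 0, 2, 2, 2, 2, 0, 0, -2, 0, 2, -2, 2, 0, 2, 0], [0, 2, -2, 2, 2, 2, -2, 0, 2, 0, 2, -2, 2, 2, 0, 0, -2, 0, -2, 2, 2, 0, -2, 0], [0, -2, 2,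 -2, 2, -2, -2, 0, 2, 0, 2, -2, -2, 2, 0, 0, 2, 0, 2, 2, 2, 0, 2, 0], [0, 2, -2, 2, -2, 2, -2, 0, -2, 0, 2, 2, -2, -2, 0, 0, 2, 0, 2, 2, 2, 0, 2, 0], [0, -2, -2, -2, 2, 2, 2, 0, -2, 0, 2, 2, 2, 2, 0, 0, 2, 0, 2, 2, -2, 0, -2, 0], [-2, 0, 0, 0, 0, 0, 0, 2, 0, -2, 0, 0, 0, 0, -2, -2, 0, -2, 0, 0, 0, 6, 0, 2], [-2, 0, 0, 0, 0, 0, 0, 2, 0, -2, 0, 0, 0, 0, -2, 6, 0, -2, 0, 0, 0, -2, 0, 2], [-2, 0, 0, 0, 0, 0, 0, 2, 0, -2, 0, 0, 0, 0, -2, -2, 0, 6, 0, 0, 0, -2, 0, 2], [2, 0, 0, 0, 0, 0, 0, -2, 0, 2, 0, 0, 0, 0, 2, 2, 0, 2, 0, 0, 0, 2, 0, 6]]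

def matA8 : List (List ℤ) := [[5, -1, -1, -1, -1, -1, 1, -1, -1, -1, -1, -1, 1, -1, -1, 1, 1, 1, -1, -3, -1, 1, -1, 3], [-1, 1, 1, -3, 1, 1, -1, 1, 1, 1, 1, 1, -1, -3, -3, -1, 3, -1, 1, -1, 1, 3, 1, 1], [-1, 1, -3, 1, -3, 1, -1, 1, 1, 1, 1, 1, 3, 1, -3, 3, -1, -1, 1, -1, 1, -1, 1, 1], [-1, 1, 1, 1, 1, 1, -1, -3, 1, 1, 1, 1, -1, 1, 1, 3, 3, -1, 1, -1, -3, -1, -3, 1], [-1, 1, 1, 1, 1, 1, 3, 1, 1, 1, -3, 1, -1, 1, -3, -1, -1, 3, 1, -1, -3, -1, 1, 1], [-1, -3, -3, 1, 1, 1, 3, -3, 1, 1, 1, 1, -1, 1, 1, -1, -1, -1, 1, -1, 1, 3, 1, 1], [-1, 1, 1, 1, 1, 1, -1, 1, 1, -3, 1, 1, 3, 1, 1, -1, -1, -1, -3, -1, -3, 3, 1, 1], [1, -1, 3, -1, -1, 3, 1, -1, 3, -1, -1, -1, 1, 3, -1, 1, 1, 1, -1, 1, 3, 1, -1,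 -1], [-1, 1, 1, -3, 1, 1, -1, -3, -3, 1, 1, 1, 3, 1, 1, -1, -1, 3, 1, -1, 1, -1, 1, 1], [1, -1, 3, 3, -1, -1, 1, -1, -1, -1, 3, -1, 1, -1, -1, 1, 1, 1, 3, 1, -1, 1, 3, -1], [-1, -3, 1, 1, 1, 1, -1, 1, 1, 1, 1, 1, -1, -3, 1, 3, -1, 3, -3, -1, 1, -1, 1, 1], [1, -1, -1, -1, 3, -1, 1, 3, -1, 3, 3, -1, 1, 3, -1, 1, 1, 1, -1, 1, -1, 1, -1, -1], [-1, 1, -3, 1, 1, 1, -1, 1, 1, -3, 1, -3, -1, 1, 1, -1, 3, 3, 1, -1, 1, -1, 1, 1], [1, 3, -1, -1, -1, -1, 1, -1, 3, 3, -1, -1, 1, -1, 3, 1, 1, 1, -1, 1, -1, 1, 3, -1], [1, 3, -1, 3, 3, -1, 1, -1, -1, -1, -1, 3, 1, -1, -1, 1, 1, 1, -1, 1, 3, 1, -1, -1], [-1, -3, 1, 1, 1, -3, -1, 1, 1, 1, -3, 1, 3, 1, 1, -1, 3, -1, 1, -1, 1, -1, 1, 1], [1, -1, -1, -1, -1,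 3, 1, 3, -1, -1, -1, 3, 1, -1, 3, 1, 1, 1, 3, 1, -1, 1, -1, -1], [-1, 1, 1, 1, 1, 1, 3, 1, 1, 1, 1, -3, 3, -3, 1, -1, -1, -1, 1, -1, 1, -1, -3, 1], [-1, 1, 1, 1, 1, 1, -1, 1, -3, 1, -3, -3, -1, 1, 1, 3, -1, -1, 1, -1, 1, 3, 1, 1], [-1, 1, 1, -3, 1, -3, 3, 1, 1, -3, 1, 1, -1, 1, 1, 3, -1, -1, 1, -1, 1, -1, 1, 1], [-1, 1, 1, 1, -3, -3, -1, 1, 1, 1, 1, 1, -1, 1, 1, -1, -1, 3, 1, -1, 1, 3, -3, 1], [-1, 1, 1, 1, -3, 1, 3, 1, -3, 1, 1, 1, -1, 1, 1, -1, 3, -1, -3, -1, 1, -1, 1, 1], [-3, -1, -1, -1, -1, -1, 1, -1, -1, -1, -1, -1, 1, -1, -1, 1, 1, 1, -1, 5, -1, 1, -1, 3], [3, 1, 1, 1, 1, 1, -1, 1, 1, 1, 1, 1, -1, 1, 1, -1, -1, -1, 1, 3, 1, -1, 1, 5]]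

def matT8 : List (List ℤ) := [[5, -1, -1, -1, -1, -1, -1, 1, -1, 1, -1, 1, -1, 1, 1, -1, 1, -1, -1, -1, -1, -1, -3, 3], [-1, 1, 1, 1, 1, -3, 1, -1, 1, -1, -3, -1, 1, 3, 3, -3, -1, 1, 1, 1, 1, 1, -1, 1], [-1, 1, -3, 1, 1, -3, 1, 3, 1, 3, 1, -1, -3, -1, -1, 1, -1, 1, 1, 1, 1, 1, -1, 1], [-1, -3, 1, 1, 1, 1, 1, -1, -3, 3, 1, -1, 1, -1, 3, 1, -1, 1, 1, -3, 1, 1, -1, 1], [-1, 1, -3, 1, 1, 1, 1, -1, 1, -1, 1, 3, 1, -1, 3, 1, -1, 1, 1, 1, -3, -3, -1, 1], [-1, 1, 1, 1, 1, 1, 1, 3, 1, -1, 1, -1, 1, -1, -1, -3, 3, 1, 1, -3, -3, 1, -1, 1], [1, -1, -1, -1, 3, 3, -1, 1, -1, 1, -1, 1, -1, 1, 1, -1, 1, 3, -1, 3, -1, 3, 1, -1], [-1, 1, 1, -3, 1, -3, 1, -1, -3, -1, 1, 3, 1, -1, -1, 1, 3, 1, 1, 1, 1, 1,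 -1, 1], [-1, 1, 1, 1, 1, 1, 1, 3, -3, -1, 1, -1, 1, 3, -1, 1, -1, 1, -3, 1, 1, -3, -1, 1], [-1, 1, 1, 1, 1, 1, -3, -1, 1, -1, 1, 3, -3, 3, -1, 1, -1, 1, 1, -3, 1, 1, -1, 1], [-1, 1, 1, 1, -3, 1, 1, -1, 1, 3, 1, 3, 1, -1, -1, -3, -1, 1, -3, 1, 1, 1, -1, 1], [-1, 1, 1, 1, 1, 1, 1, -1, 1, -1, 1, -1, -3, -1, 3, 1, 3, -3, -3, 1, 1, 1, -1, 1], [1, -1, 3, -1, -1, -1, 3, 1, 3, 1, -1, 1, -1, 1, 1, 3, 1, 3, -1, -1, -1, -1, 1, -1], [-1, -3, 1, 1, 1, 1, 1, 3, 1, -1, -3, 3, 1, -1, -1, 1, -1, -3, 1, 1, 1, 1, -1, 1], [-1, -3, -3, 1, -3, 1, 1, -1, 1, -1, 1, -1, 1, 3, -1, 1, 3, 1, 1, 1, 1, 1, -1, 1], [1, -1, 3, 3, -1, -1, -1, 1, -1, 1, 3, 1, -1, 1, 1, -1, 1, -1, 3, 3, -1, -1, 1, -1], [1, 3, -1, 3, -1, -1,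 -1, 1, -1, 1, -1, 1, 3, 1, 1, 3, 1, -1, -1, -1, -1, 3, 1, -1], [1, -1, -1, -1, 3, -1, -1, 1, 3, 1, 3, 1, 3, 1, 1, -1, 1, -1, -1, -1, 3, -1, 1, -1], [-1, 1, 1, 1, 1, 1, -3, -1, 1, 3, -3, -1, 1, -1, -1, 1, 3, 1, 1, 1, 1, -3, -1, 1], [-3, -1, -1, -1, -1, -1, -1, 1, -1, 1, -1, 1, -1, 1, 1, -1, 1, -1, -1, -1, -1, -1, 5, 3], [-1, 1, 1, -3, -3, 1, -3, 3, 1, -1, 1, -1, 1, -1, 3, 1, -1, 1, 1, 1, 1, 1, -1, 1], [1, 3, -1, -1, -1, 3, 3, 1, -1, 1, -1, 1, -1, 1, 1, -1, 1, -1, 3, -1, 3, -1, 1, -1], [-1, 1, 1, -3, 1, 1, 1, -1, 1, 3, 1, -1, 1, 3, -1, 1, -1, -3, 1, 1, -3, 1, -1, 1], [3, 1, 1, 1, 1, 1, 1, -1, 1, -1, 1, -1, 1, -1, -1, 1, -1, 1, 1, 1, 1, 1, 3, 5]]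

def matA9 : List (List ℤ) := [[3, -1, -1, -1, -1, -1, -1, -1, -1, -1, 1, -1, 1, -1, 1, 1, 1, -1, -1, -1, 1, 1, 3, 5], [1, 1, -3, -3, 1, 1, 1, 1, 1, 1, 3, 1, -1, 1, -1, -1, -1, 1, -3, -3, -1, -1, 1, -1], [1, -3, 1, -3, 1, 1, 1, 1, 1, 1, -1, 1, 3, 1, -1, 3, -1, 1, 1, 1, -1, 3, 1, -1], [-1, 3, 3, -1, 3, -1, -1, -1, -1, -1, 1, -1, 1, 3, 1, 1, -3, -1, -1, -1, 1, 1, -1, 1], [1, 1, 1, 1, 1, 1, 1, -3, 1, 1, -1, 1, -1, 1, -1, 3, 3, 1, 1, -3, 3, -1, 1, -1], [1, 1, 1, 1, 1, 1, 1, 1, 1, 1, -1, 1, 3, 1, 3, -1, 3, -3, -3, 1, -1, -1, 1, -1], [-1, 3, -1, -1, -1, -1, -1, -1, 3, 3, 1, -1, 1, -1, -3, 1, 1, -1, -1, 3, 1, 1, -1, 1], [1, 1, 1, 1, -3, 1, 1, 1, -3, 1, 3, 1, 3, 1, -1, -1, -1, 1, 1, 1, 3, -1, 1,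 -1], [-1, -1, -1, 3, 3, -1, 3, 3, -1, -1, 1, -1, 1, -1, -3, 1, 1, -1, -1, -1, 1, 1, -1, 1], [1, 1, 1, 1, 1, 1, -3, 1, 1, 1, -1, -3, 3, -3, -1, -1, -1, 1, 1, -3, -1, -1, 1, -1], [1, 1, 1, 1, 1, 1, 1, -3, -3, 1, -1, 1, -1, -3, -1, -1, -1, 1, -3, 1, -1, 3, 1, -1], [1, 1, 1, -3, 1, 1, 1, 1, 1, -3, -1, 1, -1, -3, -1, -1, -1, -3, 1, 1, 3, -1, 1, -1], [-3, 1, 1, 1, 1, 1, 1, 1, 1, 1, -1, 1, -1, 1, -1, -1, -1, 1, 1, 1, -1, -1, 5, 3], [1, 1, 1, 1, 1, 1, -3, 1, 1, -3, 3, 1, -1, 1, -1, -1, 3, 1, 1, 1, -1, 3, 1, -1], [1, 1, 1, 1, 1, -3, 1, 1, 1, 1, 3, 1, -1, -3, 3, 3, -1, 1, 1, 1, -1, -1, 1, -1], [1, 1, -3, 1, 1, 1, -3, 1, -3, 1, -1, 1, -1, 1, -1, 3, -1, -3, 1, 1, -1, -1, 1, -1], [1, -3, 1, 1, 1, -3,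 -3, 1, 1, 1, -1, 1, -1, 1, -1, -1, -1, 1, -3, 1, 3, -1, 1, -1], [1, 1, 1, 1, -3, -3, 1, 1, 1, 1, -1, 1, -1, 1, -1, -1, -1, -3, 1, -3, -1, 3, 1, -1], [1, 1, 1, -3, 1, -3, 1, 1, -3, 1, -1, -3, -1, 1, -1, -1, 3, 1, 1, 1, -1, -1, 1, -1], [-1, -1, -1, -1, 3, -1, -1, -1, -1, 3, 1, 3, 1, -1, 1, -3, 1, -1, 3, -1, 1, 1, -1, 1], [-1, 3, -1, -1, -1, -1, -1, 3, -1, -1, -3, 3, 1, -1, 1, 1, 1, 3, -1, -1, 1, 1, -1, 1], [-1, -1, 3, -1, -1, -1, -1, -1, -1, -1, 1, 3, 1, -1, -3, 1, 1, -1, -1, -1, -3, -3, -1, 1], [-1, -1, 3, -1, -1, 3, -1, 3, -1, 3, 1, -1, -3, -1, 1, 1, 1, -1, -1, -1, 1, 1, -1, 1], [5, 1, 1, 1, 1, 1, 1, 1, 1, 1, -1, 1, -1, 1, -1, -1, -1, 1, 1, 1, -1, -1, -3, 3]]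

def matT9 : List (List ℤ) := [[3, 1, 1, -1, 1, 1, -1, 1, -1, 1, 1, 1, -3, 1, 1, 1, 1, 1, 1, -1, -1, -1, -1, 5], [-1, 1, -3, 3, 1, 1, 3, 1, -1, 1, 1, 1, 1, 1, 1, 1, -3, 1, 1, -1, 3, -1, -1, 1], [-1, -3, 1, 3, 1, 1, -1, 1, -1, 1, 1, 1, 1, 1, 1, -3, 1, 1, 1, -1, -1, 3, 3, 1], [-1, -3, -3, -1, 1, 1, -1, 1, 3, 1, 1, -3, 1, 1, 1, 1, 1, 1, -3, -1, -1, -1, -1, 1], [-1, 1, 1, 3, 1, 1, -1, -3, 3, 1, 1, 1, 1, 1, 1, 1, 1, -3, 1, 3, -1, -1, -1, 1], [-1, 1, 1, -1, 1, 1, -1, 1, -1, 1, 1, 1, 1, 1, -3, 1, -3, -3, -3, -1, -1, -1, 3, 1], [-1, 1, 1, -1, 1, 1, -1, 1, 3, -3, 1, 1, 1, -3, 1, -3, -3, 1, 1, -1, -1, -1, -1, 1], [-1, 1, 1, -1, -3, 1, -1, 1, 3, 1, -3, 1, 1, 1, 1, 1, 1, 1, 1, -1, 3, -1, 3, 1], [-1,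 1, 1, -1, 1, 1, 3, -3, -1, 1, -3, 1, 1, 1, 1, -3, 1, 1, -3, -1, -1, -1, -1, 1], [-1, 1, 1, -1, 1, 1, 3, 1, -1, 1, 1, -3, 1, -3, 1, 1, 1, 1, 1, 3, -1, -1, 3, 1], [1, 3, -1, 1, -1, -1, 1, 3, 1, -1, -1, -1, -1, 3, 3, -1, -1, -1, -1, 1, -3, 1, 1, -1], [-1, 1, 1, -1, 1, 1, -1, 1, -1, -3, 1, 1, 1, 1, 1, 1, 1, 1, -3, 3, 3, 3, -1, 1], [1, -1, 3, 1, -1, 3, 1, 3, 1, 3, -1, -1, -1, -1, -1, -1, -1, -1, -1, 1, 1, 1, -3, -1], [-1, 1, 1, 3, 1, 1, -1, 1, -1, -3, -3, -3, 1, 1, -3, 1, 1, 1, 1, -1, -1, -1, -1, 1], [1, -1, -1, 1, -1, 3, -3, -1, -3, -1, -1, -1, -1, -1, 3, -1, -1, -1, -1, 1, 1, -3, 1, -1], [1, -1, 3, 1, 3, -1, 1, -1, 1, -1, -1, -1, -1, -1, 3, 3, -1, -1, -1, -3, 1, 1, 1, -1], [1, -1, -1, -3, 3,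 3, 1, -1, 1, -1, -1, -1, -1, 3, -1, -1, -1, -1, 3, 1, 1, 1, 1, -1], [-1, 1, 1, -1, 1, -3, -1, 1, -1, 1, 1, -3, 1, 1, 1, -3, 1, -3, 1, -1, 3, -1, -1, 1], [-1, -3, 1, -1, 1, -3, -1, 1, -1, 1, -3, 1, 1, 1, 1, 1, -3, 1, 1, 3, -1, -1, -1, 1], [-1, -3, 1, -1, -3, 1, 3, 1, -1, -3, 1, 1, 1, 1, 1, 1, 1, -3, 1, -1, -1, -1, -1, 1], [1, -1, -1, 1, 3, -1, 1, 3, 1, -1, -1, 3, -1, -1, -1, -1, 3, -1, -1, 1, 1, -3, 1, -1], [1, -1, 3, 1, -1, -1, 1, -1, 1, -1, 3, -1, -1, 3, -1, -1, -1, 3, -1, 1, 1, -3, 1, -1], [3, 1, 1, -1, 1, 1, -1, 1, -1, 1, 1, 1, 5, 1, 1, 1, 1, 1, 1, -1, -1, -1, -1, -3], [5, -1, -1, 1, -1, -1, 1, -1, 1, -1, -1, -1, 3, -1, -1, -1, -1, -1, -1, 1, 1, 1, 1, 3]]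

def mats : List Mat := [(matA0, matT0), (matA1, matT1), (matA2, matT2), (matA3, matT3), (matA4, matT4), (matA5, matT5), (matA6, matT6), (matA7, matT7), (matA8, matT8), (matA9, matT9)]

def rels : Rels := [
  ([0, 0, 0], []),
  ([1, 0], [0, 1]),
  ([1, 1, 1], []),
  ([2, 0], [0, 2]),
  ([2, 1], [1, 2]),
  ([2, 2, 2], []),
  ([3, 0], [0, 2, 3]),
  ([3, 1], [1, 3]),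
  ([3, 2], [2, 3]),
  ([3, 3, 3], []),
  ([4, 0], [0, 4]),
  ([4, 1], [1, 2, 4]),
  ([4, 2], [2, 4]),
  ([4, 3], [3, 4]),
  ([4, 4, 4], []),
  ([5, 0], [0, 3, 5]),
  ([5, 1], [1, 2, 4, 5]),
  ([5, 2], [2, 5]),
  ([5, 3], [3, 5]),
  ([5, 4], [4, 5]),
  ([5, 5, 5], []),
  ([6, 0], [0, 2, 3, 6]),
  ([6, 1], [1, 2, 4, 6]),
  ([6, 2], [2, 6]),
  ([6, 2, 3], [3, 6]),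
  ([6, 4], [4, 6]),
  ([6, 3, 5], [5, 6]),
  ([7, 2], [2, 2, 3, 4, 5, 5, 7]),
  ([7, 2, 3], [3, 3, 7]),
  ([7, 2, 2, 4], [2, 4, 7]),
  ([7, 5, 5], [2, 7]),
  ([8, 0, 0], [0, 0, 3, 8]),
  ([8, 1], [1, 2, 4, 4, 8]),
  ([8, 2], [2, 8]),
  ([8, 0, 3], [1, 3, 4, 4, 8]),
  ([8, 0, 0, 2, 4], [1, 8]),
  ([9, 0, 0, 2, 2, 3], [0, 1, 2, 3, 4, 4, 9]),
  ([9, 1, 4, 4], [1, 1, 2, 4, 9])]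

def paths0 : List (List ℕ × List ℕ) := [
  ([3, 3, 3, 0], [4608, 4865, 2817, 4355, 4356, 4354, 3328, 3329, 3330]),
  ([3, 1, 0], [3584, 3073, 512, 2305, 3842, 3328, 769]),
  ([4, 1, 0], [5632, 5122, 1537, 512, 5889, 5376, 769]),
  ([4, 3, 0], [6656, 5121, 3072, 6914, 6401, 5376, 3329]),
  ([4, 3, 1], [6656, 5633, 3584, 4097, 6914, 5888, 3841]),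
  ([5, 5, 5, 0], [10240, 10497, 4865, 9475, 9476, 9474, 7936, 7937, 7938]),
  ([5, 5, 5, 1], [10240, 10497, 7425, 9987, 9988, 2817, 6403, 6404, 8965, 8966, 9988, 6402, 8963, 8448, 8449, 8450]),
  ([5, 1, 0], [8192, 7683, 5122, 1537, 512, 6659, 4354, 3841, 8450, 7936, 769]),
  ([5, 3, 0], [9216, 7681, 3072, 9475, 4353, 8962, 7936, 3329]),
  ([5, 4, 0], [9728, 7681, 5120, 6657, 9986, 7936, 5377]),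
  ([7, 5, 5, 2, 3], [15360, 14337, 4352, 4353, 15618, 14592, 9474, 9475, 8961, 8962]),
  ([7, 5, 5, 2, 2, 4], [15360, 14849, 6401, 15618, 15104, 9987, 9988, 8962, 8963, 8961, 8962]),
  ([7, 5, 5, 5, 5, 5, 5], [15360, 15361, 15362, 2560, 10497, 10497]),
  ([8, 0, 0, 2, 4, 0, 0], [17920, 15873, 512, 513, 3842, 18179, 16128, 1, 1793, 5378, 257, 1795, 5380]),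
  ([8, 0, 0, 2, 4, 1], [17920, 16385, 6402, 2818, 2305, 2306, 5891, 5892, 6402, 6403, 18181, 17156, 16640, 1538, 513, 1539, 514, 2307, 5892]),
  ([8, 0, 0, 2, 4, 0, 3], [17920, 17409, 2818, 4356, 6405, 4355, 2305, 3842, 5891, 5892, 2304, 18181, 17665, 17152, 3075, 3077, 4103, 1540, 2565, 2, 6914, 257, 1795, 5380]),
  ([8, 0, 0, 2, 4, 0, 0, 2, 4, 0, 0, 2, 4], [17920, 17921, 17922, 1024, 257, 2820, 1795, 7431, 6406, 6405, 5380, 262, 1800, 1799, 6410, 5385, 5384]),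
  ([9, 1, 4, 4, 0, 0, 2, 2, 3], [18944, 18436, 5123, 1538, 513, 512, 5636, 2051, 1025, 6147, 2561, 6657, 7170, 1281, 2820, 2307, 2306, 4358, 4357, 3844, 3843, 2309, 7432, 5894, 5892, 2823, 2310, 6409, 5895, 5893, 19206, 18688, 3589, 2052, 2051, 6918, 6919, 6405, 6406, 6404, 6405, 770, 5379, 5380, 769, 5378, 5379]),
  ([9, 1, 4, 4, 1, 4, 4, 1, 4, 4], [18944, 18948, 18952, 5639, 5641, 6155, 2056, 2569, 2054, 2055, 1029, 5635, 6149, 7174, 2050, 2563, 1024, 7425, 2817, 1281, 2307, 2308, 5893, 7429, 6404, 5890, 5891])]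

def paths : List (List ℕ × List ℕ) := paths0

def rows : List (List ℕ) := [
  [0, 0, 0, 0, 0, 2, 0, 0, 0, 0, 0, 0, 0, 0, 0, 0, 0, 0, 0, 0, 0, 0, 0, 0, 0, 0, 0, 0, 0, 0, 0, 0, 0, 0, 0, 0, 0, 0],
  [0, 0, 0, 0, 2, 0, 0, 0, 0, 0, 0, 0, 0, 0, 0, 0, 0, 0, 0, 0, 0, 0, 0, 0, 0, 0, 0, 0, 0, 0, 0, 0, 0, 0, 0, 0, 0, 0],
  [0, 0, 0, 1, 0, 0, 0, 0, 0, 0, 0, 0, 0, 0, 0, 0, 0, 0, 0, 0, 0, 0, 0, 0, 0, 0, 0, 0, 0, 0, 0, 0, 0, 0, 0, 0, 0, 0],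
  [0, 0, 0, 0, 0, 0, 0, 0, 0, 0, 0, 0, 2, 0, 0, 0, 0, 0, 0, 0, 0, 0, 0, 0, 0, 0, 0, 0, 0, 0, 0, 0, 0, 0, 0, 0, 0, 0],
  [0, 0, 0, 0, 0, 0, 0, 0, 1, 0, 0, 0, 0, 0, 0, 0, 0, 0, 0, 0, 0, 0, 0, 0, 0, 0, 0, 0, 0, 0, 0, 0, 0, 0, 0, 0, 0, 0],
  [0, 0, 0, 0, 0, 0, 0, 0, 0, 2, 0, 0, 0, 0, 0, 0, 0, 0, 0, 0, 0, 0, 0, 0, 0, 0, 0, 0, 0, 0, 0, 0, 0, 0, 0, 0, 0, 0],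
  [0, 0, 0, 0, 0, 2, 0, 0, 0, 0, 0, 0, 0, 0, 2, 0, 0, 0, 0, 0, 0, 0, 0, 0, 0, 0, 0, 0, 0, 0, 0, 0, 0, 0, 0, 0, 0, 0],
  [0, 0, 0, 1, 0, 0, 0, 2, 2, 0, 1, 0, 0, 1, 0, 0, 0, 0, 0, 0, 0, 0, 0, 0, 0, 0, 0, 0, 0, 0, 0, 0, 0, 0, 0, 0, 0, 0],
  [0, 0, 0, 0, 0, 0, 0, 0, 2, 0, 0, 0, 0, 0, 0, 0, 0, 2, 0, 0, 0, 0, 0, 0, 0, 0, 0, 0, 0, 0, 0, 0, 0, 0, 0, 0, 0, 0],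
  [0, 0, 0, 0, 0, 0, 0, 0, 0, 0, 0, 0, 0, 1, 0, 0, 0, 0, 0, 0, 0, 0, 0, 0, 0, 0, 0, 0, 0, 0, 0, 0, 0, 0, 0, 0, 0, 0],
  [0, 0, 0, 0, 0, 0, 0, 0, 1, 0, 0, 0, 0, 0, 0, 0, 0, 1, 1, 0, 0, 0, 0, 0, 0, 0, 0, 0, 0, 0, 0, 0, 0, 0, 0, 0, 0, 0],
  [0, 0, 0, 0, 0, 0, 0, 0, 0, 0, 0, 0, 2, 0, 0, 0, 0, 2, 0, 1, 0, 0, 0, 0, 0, 0, 0, 0, 0, 0, 0, 0, 0, 0, 0, 0, 0, 0],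
  [0, 0, 0, 0, 0, 1, 0, 0, 0, 0, 0, 0, 0, 0, 0, 0, 0, 0, 0, 0, 1, 0, 0, 0, 0, 0, 0, 0, 0, 0, 0, 0, 0, 0, 0, 0, 0, 0],
  [0, 2, 0, 1, 0, 0, 0, 2, 0, 0, 1, 0, 0, 0, 0, 0, 0, 0, 0, 0, 0, 0, 0, 0, 0, 0, 0, 0, 0, 0, 0, 0, 0, 0, 0, 0, 0, 0],
  [0, 2, 0, 2, 0, 2, 0, 0, 0, 0, 0, 0, 0, 0, 0, 0, 0, 0, 0, 0, 0, 0, 0, 0, 0, 0, 0, 0, 0, 0, 0, 0, 0, 2, 0, 0, 0, 0],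
  [0, 0, 0, 0, 1, 0, 2, 2, 2, 0, 2, 1, 2, 2, 0, 0, 0, 0, 0, 0, 0, 0, 0, 0, 0, 0, 0, 0, 0, 0, 0, 0, 0, 2, 0, 0, 0, 0],
  [1, 0, 1, 0, 0, 2, 0, 0, 0, 0, 0, 0, 0, 0, 2, 0, 0, 0, 0, 0, 0, 0, 0, 0, 0, 0, 0, 0, 0, 0, 0, 0, 0, 0, 0, 0, 0, 0],
  [0, 0, 0, 1, 2, 2, 0, 2, 1, 0, 0, 0, 2, 2, 0, 0, 0, 0, 0, 0, 0, 0, 0, 0, 0, 0, 0, 0, 0, 0, 0, 0, 0, 0, 0, 0, 0, 0],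
  [0, 0, 1, 0, 2, 1, 0, 0, 0, 0, 0, 0, 1, 0, 2, 0, 0, 0, 0, 0, 0, 0, 0, 0, 0, 0, 0, 0, 0, 0, 0, 0, 0, 0, 0, 0, 0, 0]]

def mu : List (List ℕ) := [
  [0, 0, 0, 0, 0, 0, 0, 0, 0, 0, 0, 0, 0, 0, 0, 0, 0, 0, 0, 0, 0, 0, 0, 0, 0, 0, 0, 0, 0, 0, 0, 0, 0, 0, 0, 0, 0, 0],
  [0, 0, 0, 0, 0, 0, 0, 0, 0, 0, 0, 0, 0, 0, 0, 0, 0, 0, 0, 0, 0, 0, 0, 0, 0, 0, 0, 0, 0, 0, 0, 0, 0, 0, 0, 0, 0, 0],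
  [0, 0, 0, 0, 0, 0, 1, 0, 0, 0, 0, 0, 0, 0, 0, 0, 0, 0, 0, 0, 0, 0, 0, 0, 0, 0, 0, 0, 0, 0, 0, 0, 0, 0, 0, 0, 0, 0],
  [0, 0, 0, 0, 0, 0, 0, 0, 0, 0, 0, 0, 0, 0, 0, 1, 0, 0, 0, 0, 0, 0, 0, 0, 0, 0, 0, 0, 0, 0, 0, 0, 0, 0, 0, 0, 0, 0],
  [0, 0, 0, 0, 0, 0, 2, 0, 0, 0, 0, 0, 0, 0, 0, 0, 1, 0, 0, 0, 0, 0, 0, 0, 0, 0, 0, 0, 0, 0, 0, 0, 0, 0, 0, 0, 0, 0],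
  [0, 0, 0, 0, 0, 0, 0, 0, 0, 0, 0, 0, 0, 0, 0, 0, 0, 0, 0, 0, 0, 0, 0, 0, 0, 0, 0, 0, 0, 0, 0, 0, 0, 0, 0, 0, 0, 0]]

def comb : List (List ℕ) := [
  [1, 1, 0, 2, 0, 0, 0, 0, 0, 0, 0, 0, 0, 0, 0, 0, 1, 0, 2],
  [0, 0, 0, 0, 1, 0, 0, 1, 0, 2, 0, 0, 0, 2, 0, 0, 0, 0, 0],
  [2, 2, 0, 1, 0, 0, 2, 0, 0, 0, 0, 0, 0, 0, 0, 0, 0, 0, 1],
  [0, 0, 1, 0, 0, 0, 0, 0, 0, 0, 0, 0, 0, 0, 0, 0, 0, 0, 0],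
  [0, 2, 0, 0, 0, 0, 0, 0, 0, 0, 0, 0, 0, 0, 0, 0, 0, 0, 0],
  [2, 0, 0, 0, 0, 0, 0, 0, 0, 0, 0, 0, 0, 0, 0, 0, 0, 0, 0],
  [0, 0, 0, 0, 0, 0, 0, 0, 0, 0, 0, 0, 0, 0, 0, 0, 0, 0, 0],
  [1, 1, 1, 1, 1, 0, 0, 0, 0, 2, 0, 0, 0, 0, 0, 0, 0, 2, 0],
  [0, 0, 0, 0, 1, 0, 0, 0, 0, 0, 0, 0, 0, 0, 0, 0, 0, 0, 0],
  [0, 0, 0, 0, 0, 2, 0, 0, 0, 0, 0, 0, 0, 0, 0, 0, 0, 0, 0],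
  [1, 1, 0, 1, 2, 0, 0, 1, 0, 1, 0, 0, 0, 0, 0, 0, 0, 2, 0],
  [0, 0, 0, 1, 0, 0, 0, 0, 0, 2, 0, 0, 0, 1, 2, 1, 0, 1, 0],
  [0, 0, 0, 2, 0, 0, 0, 0, 0, 0, 0, 0, 0, 0, 0, 0, 0, 0, 0],
  [0, 0, 0, 0, 0, 0, 0, 0, 0, 1, 0, 0, 0, 0, 0, 0, 0, 0, 0],
  [1, 0, 0, 0, 0, 0, 2, 0, 0, 0, 0, 0, 0, 0, 0, 0, 0, 0, 0],
  [0, 0, 0, 0, 0, 0, 0, 0, 0, 0, 0, 0, 0, 0, 0, 0, 0, 0, 0],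
  [0, 0, 0, 0, 0, 0, 0, 0, 0, 0, 0, 0, 0, 0, 0, 0, 0, 0, 0],
  [0, 0, 0, 0, 2, 0, 0, 0, 2, 0, 0, 0, 0, 0, 0, 0, 0, 0, 0],
  [0, 0, 0, 0, 0, 0, 0, 0, 1, 0, 1, 0, 0, 0, 0, 0, 0, 0, 0],
  [0, 0, 0, 2, 2, 0, 0, 0, 2, 0, 0, 1, 0, 0, 0, 0, 0, 0, 0],
  [1, 0, 0, 0, 0, 0, 0, 0, 0, 0, 0, 0, 1, 0, 0, 0, 0, 0, 0]]

def levels : List Lev := [
  (519737400364851591764307151212266000, [519737400364851591764307151212266000]),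
  (519737400364851591764307151212266000, [519737400364851591764307151212266000, 519899659641680805127694331176043024, 519899659641680805127698724927586832]),
  (514707362783145977499168232893334032, [514707362783145977499168232893334032]),
  (514707362783145977499168232893334032, [514707362783145977499168232893334032, 562775365001245362174665339635744303, 602895279739821077013404236210782734]),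
  (514707362783145977499168232893334032, [514707362783145977499168232893334032, 560098086935981267104978025374596591, 560098089409518978041130973526541871, 560098166164143781369247515767455279, 560098166239097108328572366819411503, 560181751950549657276859319445863919, 560181754349134041253687416545852975, 562775365001245362174665339635744303, 602895279739821077013404236210782734]),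
  (514707362783145977499168232893334032, [514707362783145977499168232893334032, 519899659641680800516012710795166224, 519899659641680805127698729088336400, 560098086933638975637499119484255791, 560098086935981267104978025374596591, 560098087011010151997836850565266991, 560098089409443420251716718649982447, 560098089409518978041130973526541871, 560098089489232524344028176691215919, 560098166164143781369247515767455279, 560098166239097108328572366819411503, 560098166239172666262101947210776047, 560098168637605934516122415340699183, 560100622237181649706928629693791791, 560100622237257207640462466397750767, 560100622312135124379817658866452015, 560100624710643950423256913067621935, 560179216574395800001878948461463087,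 560179216649349274530652927001411119, 560179295802633872055703431223426607, 560179298276020614982472328480802287, 560181751950549657276859319445863919, 560181754349134041253687416545852975, 562775365001245362174665339635744303, 600380258393299087215510902960308750, 600380260948892640533725978460439054, 602895279739821077013404236210782734])]

def cert : CfsgLib.SchurPath.Cert where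
  m := 6
  rels := rels
  paths := expandAll rels paths
  rows := rows
  mu := mu
  comb := comb

end CfsgLib.SchurCoTwo.P3
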