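import Cfsg.Agent.Lib.Schur.CoTwo.Check

/-! Generated certificate for the splitting over a Sylow 5-subgroup of Co2. -/

set_option autoImplicit false
set_option linter.all false
set_option maxRecDepth 100000

namespace CfsgLib.SchurCoTwo.P5

open CfsgLib.SchurPath (Rels)

def matA0 : List (List ℤ) := [[4, -2, 0, 0, -2, -2, 0, 0, -2, 0, 0, 0, 0, 0, 0, 0, -2, 0, 0, -2, -2, 0, -2, 4], [-2, 0, -2, 2, 0, 0, 2, 2, 0, 2, -2, -2, 2, 2, -2, -2, 0, -2, -2, 0, 0, 2, 0, 2], [-2, 0, -2, -2, 0, 0, -2, -2, 0, -2, -2, 2, 2, 2, 2, 2, 0, -2, 2, 0, 0, 2, 0, 2], [0, -2, 0, 0, -2, -2, 0, 4, -2, 0, 0, 0, 0, 0, 0, 4, 2, 0, 0, 2, 2, 0, 2, 0], [0, 2, 0, 4, 2, -2, 0, 0, -2, 0, 0, 4, 0, 0, 0, 0, -2, 0, 0, 2, 2, 0, -2, 0], [0, -2, 0, 0, 2,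 2, 0, 0, -2, 4, 0, 0, 0, 0, 4, 0, 2, 0, 0, -2, 2, 0, -2, 0], [0, 2, 4, 0, 2, -2, 0, 0, -2, 0, 0, 0, 0, 4, 0, 0, 2, 0, 0, -2, -2, 0, 2, 0], [0, -2, 4, 0, -2, 2, 0, 0, 2, 0, 0, 0, 0, 4, 0, 0, -2, 0, 0, 2, 2, 0, -2, 0], [0, -2, 0, 0, 2, 2, 0, 0, -2, 0, 0, 0, 0, 0, 0, 0, -2, 4, 0, 2, -2, 4, 2, 0], [0, -2, 0, 0, 2, -2, 0, 0, 2, 0, 4, 0, 4, 0, 0, 0, -2, 0, 0, -2, 2, 0, 2, 0], [-2, 0, 2, 2, 0, 0, -2, -2, 0, 2, -2, -2, 2, -2, -2, 2, 0, 2, 2, 0, 0, -2, 0, 2], [0, 2, 0, 0, -2, -2, 0, 0, 2, 0, 0, 0, 0, 0, 0, 0, 2, 4, 0, -2, 2, 4, -2, 0], [-2, 0, 2, -2, 0, 0, -2, 2, 0, 2, 2, 2, -2, -2, -2, -2, 0, -2, 2, 0, 0, 2, 0, 2], [0, -2, 0, 0, 2, -2, 4, 0, 2, 0, 0, 0, 0, 0, 0, 0, 2, 0, 4, 2, -2, 0, -2, 0], [0, -2, 0, 4, -2, 2, 0, 0, 2,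 0, 0, 4, 0, 0, 0, 0, 2, 0, 0, -2, -2, 0, 2, 0], [-2, 0, 2, -2, 0, 0, 2, 2, 0, -2, -2, 2, 2, -2, 2, -2, 0, 2, -2, 0, 0, -2, 0, 2], [0, 2, 0, 0, -2, -2, 0, 0, 2, 4, 0, 0, 0, 0, 4, 0, -2, 0, 0, 2, -2, 0, 2, 0], [0, 2, 0, 0, -2, 2, 4, 0, -2, 0, 0, 0, 0, 0, 0, 0, -2, 0, 4, -2, 2, 0, 2, 0], [-2, 0, 2, 2, 0, 0, 2, -2, 0, -2, 2, -2, -2, -2, 2, 2, 0, -2, -2, 0, 0, 2, 0, 2], [-2, 0, -2, -2, 0, 0, 2, -2, 0, 2, 2, 2, -2, 2, -2, 2, 0, 2, -2, 0, 0, -2, 0, 2], [0, 2, 0, 0, -2, 2, 0, 0, -2, 0, 4, 0, 4, 0, 0, 0, 2, 0, 0, 2, -2, 0, -2, 0], [-2, 0, -2, 2, 0, 0, -2, 2, 0, -2, 2, -2, -2, 2, 2, -2, 0, 2, 2, 0, 0, -2, 0, 2], [0, 2, 0, 0, 2, 2, 0, 4, 2, 0, 0, 0, 0, 0, 0, 4, -2, 0, 0, -2, -2, 0, -2, 0], [4, 2, 0, 0, 2, 2, 0, 0, 2, 0, 0,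 0, 0, 0, 0, 0, 2, 0, 0, 2, 2, 0, 2, 4]]

def matT0 : List (List ℤ) := [[4, -2, -2, 0, 0, 0, 0, 0, 0, 0, -2, 0, -2, 0, 0, -2, 0, 0, -2, -2, 0, -2, 0, 4], [-2, 0, 0, -2, 2, -2, 2, -2, -2, -2, 0, 2, 0, -2, -2, 0, 2, 2, 0, 0, 2, 0, 2, 2], [0, -2, -2, 0, 0, 0, 4, 4, 0, 0, 2, 0, 2, 0, 0, 2, 0, 0, 2, -2, 0, -2, 0, 0], [0, 2, -2, 0, 4, 0, 0, 0, 0, 0, 2, 0, -2, 0, 4, -2, 0, 0, 2, -2, 0, 2, 0, 0], [-2, 0, 0, -2, 2, 2, 2, -2, 2, 2, 0, -2, 0, 2, -2, 0, -2, -2, 0, 0, -2, 0, 2, 2], [-2, 0, 0, -2, -2, 2, -2, 2, 2, -2, 0, -2, 0, -2, 2, 0, -2, 2, 0, 0, 2, 0, 2, 2], [0, 2, -2, 0, 0, 0, 0, 0, 0, 0, -2, 0, -2, 4, 0, 2, 0, 4, 2, 2, 0, -2, 0, 0], [0, 2, -2, 4, 0, 0, 0, 0, 0, 0, -2, 0, 2, 0, 0, 2, 0, 0, -2, -2, 0, 2, 4, 0], [-2, 0, 0,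 -2, -2, -2, -2, 2, -2, 2, 0, 2, 0, 2, 2, 0, 2, -2, 0, 0, -2, 0, 2, 2], [0, 2, -2, 0, 0, 4, 0, 0, 0, 0, 2, 0, 2, 0, 0, -2, 4, 0, -2, 2, 0, -2, 0, 0], [0, -2, -2, 0, 0, 0, 0, 0, 0, 4, -2, 0, 2, 0, 0, -2, 0, 0, 2, 2, 4, 2, 0, 0], [0, -2, 2, 0, 4, 0, 0, 0, 0, 0, -2, 0, 2, 0, 4, 2, 0, 0, -2, 2, 0, -2, 0, 0], [0, 2, 2, 0, 0, 0, 0, 0, 0, 4, 2, 0, -2, 0, 0, 2, 0, 0, -2, -2, 4, -2, 0, 0], [0, 2, 2, 0, 0, 0, 4, 4, 0, 0, -2, 0, -2, 0, 0, -2, 0, 0, -2, 2, 0, 2, 0, 0], [0, -2, 2, 0, 0, 4, 0, 0, 0, 0, -2, 0, -2, 0, 0, 2, 4, 0, 2, -2, 0, 2, 0, 0], [0, -2, 2, 4, 0, 0, 0, 0, 0, 0, 2, 0, -2, 0, 0, -2, 0, 0, 2, 2, 0, -2, 4, 0], [-2, 0, 0, 2, -2, 2, 2, -2, -2, -2, 0, 2, 0, 2, 2, 0, -2, -2, 0, 0, 2, 0, -2, 2], [0, -2, -2, 0, 0, 0, 0,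 0, 4, 0, 2, 4, -2, 0, 0, 2, 0, 0, -2, 2, 0, 2, 0, 0], [0, -2, 2, 0, 0, 0, 0, 0, 0, 0, 2, 0, 2, 4, 0, -2, 0, 4, -2, -2, 0, 2, 0, 0], [-2, 0, 0, 2, 2, -2, -2, 2, 2, -2, 0, -2, 0, 2, -2, 0, 2, -2, 0, 0, 2, 0, -2, 2], [-2, 0, 0, 2, 2, 2, -2, 2, -2, 2, 0, 2, 0, -2, -2, 0, -2, 2, 0, 0, -2, 0, -2, 2], [0, 2, 2, 0, 0, 0, 0, 0, 4, 0, -2, 4, 2, 0, 0, -2, 0, 0, 2, -2, 0, -2, 0, 0], [-2, 0, 0, 2, -2, -2, 2, -2, 2, 2, 0, -2, 0, -2, 2, 0, 2, 2, 0, 0, -2, 0, -2, 2], [4, 2, 2, 0, 0, 0, 0, 0, 0, 0, 2, 0, 2, 0, 0, 2, 0, 0, 2, 2, 0, 2, 0, 4]]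

def matA1 : List (List ℤ) := [[6, 0, 0, 0, 0, -2, -2, 0, -2, 0, 0, 0, -2, 0, 2, 0, 0, 0, 0, 0, 0, -2, 0, 2], [0, 2, -2, -2, 2, 0, 0, 2, 0, -2, 2, 2, 0, 2, 0, -2, -2, 2, 2, 2, 2, 0, -2, 0], [0, 2, -2, -2, -2, 0, 0, 2, 0, 2, -2, 2, 0, -2, 0, 2, 2, 2, 2, 2, -2, 0, 2, 0], [0, -2, 2, 2, -2, 0, 0, 2, 0, 2, 2, 2, 0, 2, 0, -2, 2, -2, 2, 2, -2, 0, -2, 0], [0, 2, -2, 2, 2, 0, 0, 2, 0, 2, -2, -2, 0, 2, 0, -2, 2, -2, -2, 2, 2, 0, 2, 0], [-2, 0, 0, 0, 0, 6, -2, 0, -2, 0, 0, 0, -2, 0, 2, 0, 0, 0, 0, 0, 0, -2, 0, 2], [0, 2, 2, 2, 2, 0, 0, -2, 0, -2, -2, 2, 0, 2, 0, 2, 2, 2, -2, 2, -2, 0, -2, 0], [0, -2, -2, 2, -2, 0, 0, -2, 0, -2, 2, -2, 0, 2, 0, 2, 2, 2, 2, 2, 2, 0, 2, 0], [0, 2, 2, 2, 2, 0, 0, 2, 0, -2, 2, -2, 0, -2, 0, -2,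 2, 2, 2, -2, -2, 0, 2, 0], [0, 2, -2, 2, 2, 0, 0, -2, 0, 2, 2, 2, 0, -2, 0, 2, 2, -2, 2, -2, 2, 0, -2, 0], [-2, 0, 0, 0, 0, -2, -2, 0, -2, 0, 0, 0, 6, 0, 2, 0, 0, 0, 0, 0, 0, -2, 0, 2], [0, -2, -2, 2, 2, 0, 0, 2, 0, 2, 2, 2, 0, 2, 0, 2, -2, 2, -2, -2, -2, 0, 2, 0], [0, 2, 2, 2, -2, 0, 0, -2, 0, 2, 2, 2, 0, -2, 0, -2, -2, 2, -2, 2, 2, 0, 2, 0], [-2, 0, 0, 0, 0, -2, 6, 0, -2, 0, 0, 0, -2, 0, 2, 0, 0, 0, 0, 0, 0, -2, 0, 2], [2, 0, 0, 0, 0, 2, 2, 0, 2, 0, 0, 0, 2, 0, 6, 0, 0, 0, 0, 0, 0, 2, 0, -2], [-2, 0, 0, 0, 0, -2, -2, 0, 6, 0, 0, 0, -2, 0, 2, 0, 0, 0, 0, 0, 0, -2, 0, 2], [0, -2, 2, -2, 2, 0, 0, -2, 0, 2, -2, 2, 0, 2, 0, -2, 2, 2, 2, -2, 2, 0, 2, 0], [0, -2, 2, 2, 2, 0, 0, 2, 0, -2, -2, 2, 0, -2, 0, 2, -2, -2, 2,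 2, 2, 0, 2, 0], [0, 2, 2, -2, -2, 0, 0, 2, 0, -2, 2, 2, 0, 2, 0, 2, 2, -2, -2, -2, 2, 0, 2, 0], [0, 2, 2, -2, 2, 0, 0, -2, 0, 2, 2, -2, 0, 2, 0, 2, -2, -2, 2, 2, -2, 0, 2, 0], [0, -2, 2, -2, 2, 0, 0, 2, 0, 2, 2, -2, 0, -2, 0, 2, 2, 2, -2, 2, 2, 0, -2, 0], [0, 2, 2, 2, -2, 0, 0, 2, 0, 2, -2, -2, 0, 2, 0, 2, -2, 2, 2, -2, 2, 0, -2, 0], [-2, 0, 0, 0, 0, -2, -2, 0, -2, 0, 0, 0, -2, 0, 2, 0, 0, 0, 0, 0, 0, 6, 0, 2], [2, 0, 0, 0, 0, 2, 2, 0, 2, 0, 0, 0, 2, 0, -2, 0, 0, 0, 0, 0, 0, 2, 0, 6]]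

def matT1 : List (List ℤ) := [[6, 0, 0, 0, 0, -2, 0, 0, 0, 0, -2, 0, 0, -2, 2, -2, 0, 0, 0, 0, 0, 0, -2, 2], [0, 2, 2, -2, 2, 0, 2, -2, 2, 2, 0, -2, 2, 0, 0, 0, -2, -2, 2, 2, -2, 2, 0, 0], [0, -2, -2, 2, -2, 0, 2, -2, 2, -2, 0, -2, 2, 0, 0, 0, 2, 2, 2, 2, 2, 2, 0, 0], [0, -2, -2, 2, 2, 0, 2, 2, 2, 2, 0, 2, 2, 0, 0, 0, -2, 2, -2, -2, -2, 2, 0, 0], [0, 2, -2, -2, 2, 0, 2, -2, 2, 2, 0, 2, -2, 0, 0, 0, 2, 2, -2, 2, 2, -2, 0, 0], [-2, 0, 0, 0, 0, 6, 0, 0, 0, 0, -2, 0, 0, -2, 2, -2, 0, 0, 0, 0, 0, 0, -2, 2], [-2, 0, 0, 0, 0, -2, 0, 0, 0, 0, -2, 0, 0, 6, 2, -2, 0, 0, 0, 0, 0, 0, -2, 2], [0, 2, 2, 2, 2, 0, -2, -2, 2, -2, 0, 2, -2, 0, 0, 0, -2, 2, 2, -2, 2, 2, 0, 0], [-2, 0, 0, 0, 0, -2, 0, 0, 0, 0, -2, 0, 0, -2, 2, 6,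 0, 0, 0, 0, 0, 0, -2, 2], [0, -2, 2, 2, 2, 0, -2, -2, -2, 2, 0, 2, 2, 0, 0, 0, 2, -2, -2, 2, 2, 2, 0, 0], [0, 2, -2, 2, -2, 0, -2, 2, 2, 2, 0, 2, 2, 0, 0, 0, -2, -2, 2, 2, 2, -2, 0, 0], [0, 2, 2, 2, -2, 0, 2, -2, -2, 2, 0, 2, 2, 0, 0, 0, 2, 2, 2, -2, -2, -2, 0, 0], [-2, 0, 0, 0, 0, -2, 0, 0, 0, 0, 6, 0, 0, -2, 2, -2, 0, 0, 0, 0, 0, 0, -2, 2], [0, 2, -2, 2, 2, 0, 2, 2, -2, -2, 0, 2, -2, 0, 0, 0, 2, -2, 2, 2, -2, 2, 0, 0], [2, 0, 0, 0, 0, 2, 0, 0, 0, 0, 2, 0, 0, 2, 6, 2, 0, 0, 0, 0, 0, 0, 2, -2], [0, -2, 2, -2, -2, 0, 2, 2, -2, 2, 0, 2, -2, 0, 0, 0, -2, 2, 2, 2, 2, 2, 0, 0], [0, -2, 2, 2, 2, 0, 2, 2, 2, 2, 0, -2, -2, 0, 0, 0, 2, -2, 2, -2, 2, -2, 0, 0], [0, 2, 2, -2, -2, 0, 2, 2, 2, -2, 0, 2, 2, 0, 0, 0, 2, -2, -2,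 -2, 2, 2, 0, 0], [0, 2, 2, 2, -2, 0, -2, 2, 2, 2, 0, -2, -2, 0, 0, 0, 2, 2, -2, 2, -2, 2, 0, 0], [0, 2, 2, 2, 2, 0, 2, 2, -2, -2, 0, -2, 2, 0, 0, 0, -2, 2, -2, 2, 2, -2, 0, 0], [0, 2, -2, -2, 2, 0, -2, 2, -2, 2, 0, -2, 2, 0, 0, 0, 2, 2, 2, -2, 2, 2, 0, 0], [-2, 0, 0, 0, 0, -2, 0, 0, 0, 0, -2, 0, 0, -2, 2, -2, 0, 0, 0, 0, 0, 0, 6, 2], [0, -2, 2, -2, 2, 0, -2, 2, 2, -2, 0, 2, 2, 0, 0, 0, 2, 2, 2, 2, -2, -2, 0, 0], [2, 0, 0, 0, 0, 2, 0, 0, 0, 0, 2, 0, 0, 2, -2, 2, 0, 0, 0, 0, 0, 0, 2, 6]]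

def matA2 : List (List ℤ) := [[6, 0, 0, 0, 0, 0, 0, 0, 0, -2, 0, 0, -2, 0, 0, 0, 0, 0, -2, -2, 2, -2, 0, 2], [0, 2, 2, -2, 2, 2, 2, -2, 2, 0, 2, -2, 0, 2, -2, 2, -2, -2, 0, 0, 0, 0, 2, 0], [0, 2, 2, -2, -2, -2, -2, 2, -2, 0, 2, 2, 0, 2, 2, 2, 2, -2, 0, 0, 0, 0, 2, 0], [0, -2, -2, -2, 2, 2, 2, -2, -2, 0, 2, 2, 0, 2, 2, 2, 2, 2, 0, 0, 0, 0, -2, 0], [-2, 0, 0, 0, 0, 0, 0, 0, 0, -2, 0, 0, -2, 0, 0, 0, 0, 0, -2, 6, 2, -2, 0, 2], [0, -2, -2, 2, 2, 2, -2, 2, 2, 0, 2, -2, 0, -2, 2, 2, 2, -2, 0, 0, 0, 0, 2, 0], [0, -2, 2, 2, 2, -2, 2, 2, -2, 0, -2, -2, 0, 2, -2, 2, 2, 2, 0, 0, 0, 0, 2, 0], [0, 2, 2, 2, 2, 2, 2, -2, -2, 0, -2, 2, 0, -2, 2, -2, 2, -2, 0, 0, 0, 0, 2, 0], [-2, 0, 0, 0, 0, 0, 0, 0, 0, -2, 0, 0, -2, 0, 0, 0,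 0, 0, -2, -2, 2, 6, 0, 2], [0, 2, 2, 2, 2, 2, -2, 2, -2, 0, 2, 2, 0, -2, -2, 2, -2, 2, 0, 0, 0, 0, -2, 0], [2, 0, 0, 0, 0, 0, 0, 0, 0, 2, 0, 0, 2, 0, 0, 0, 0, 0, 2, 2, 6, 2, 0, -2], [0, 2, -2, -2, -2, 2, 2, 2, 2, 0, -2, 2, 0, -2, -2, 2, 2, 2, 0, 0, 0, 0, 2, 0], [-2, 0, 0, 0, 0, 0, 0, 0, 0, -2, 0, 0, 6, 0, 0, 0, 0, 0, -2, -2, 2, -2, 0, 2], [0, 2, -2, 2, 2, -2, 2, 2, 2, 0, -2, 2, 0, 2, 2, 2, -2, -2, 0, 0, 0, 0, -2, 0], [0, -2, 2, 2, -2, 2, -2, -2, 2, 0, -2, 2, 0, 2, 2, 2, -2, 2, 0, 0, 0, 0, 2, 0], [0, 2, 2, 2, -2, -2, 2, -2, 2, 0, 2, -2, 0, -2, 2, 2, 2, 2, 0, 0, 0, 0, -2, 0], [0, -2, 2, -2, 2, -2, 2, 2, 2, 0, 2, 2, 0, -2, 2, -2, -2, 2, 0, 0, 0, 0, 2, 0], [0, 2, -2, 2, -2, 2, 2, 2, -2, 0, 2, -2, 0, 2, 2, -2, -2, 2,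 0, 0, 0, 0, 2, 0], [0, -2, 2, 2, -2, 2, 2, 2, 2, 0, 2, 2, 0, 2, -2, -2, 2, -2, 0, 0, 0, 0, -2, 0], [0, 2, -2, 2, 2, -2, -2, -2, 2, 0, 2, 2, 0, 2, -2, -2, 2, 2, 0, 0, 0, 0, 2, 0], [-2, 0, 0, 0, 0, 0, 0, 0, 0, 6, 0, 0, -2, 0, 0, 0, 0, 0, -2, -2, 2, -2, 0, 2], [0, 2, 2, -2, 2, 2, -2, 2, 2, 0, -2, -2, 0, 2, 2, -2, 2, 2, 0, 0, 0, 0, -2, 0], [-2, 0, 0, 0, 0, 0, 0, 0, 0, -2, 0, 0, -2, 0, 0, 0, 0, 0, 6, -2, 2, -2, 0, 2], [2, 0, 0, 0, 0, 0, 0, 0, 0, 2, 0, 0, 2, 0, 0, 0, 0, 0, 2, 2, -2, 2, 0, 6]]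

def matT2 : List (List ℤ) := [[6, 0, 0, 0, -2, 0, 0, 0, -2, 0, 2, 0, -2, 0, 0, 0, 0, 0, 0, 0, -2, 0, -2, 2], [0, 2, 2, -2, 0, -2, -2, 2, 0, 2, 0, 2, 0, 2, -2, 2, -2, 2, -2, 2, 0, 2, 0, 0], [0, 2, 2, -2, 0, -2, 2, 2, 0, 2, 0, -2, 0, -2, 2, 2, 2, -2, 2, -2, 0, 2, 0, 0], [0, -2, -2, -2, 0, 2, 2, 2, 0, 2, 0, -2, 0, 2, 2, 2, -2, 2, 2, 2, 0, -2, 0, 0], [0, 2, -2, 2, 0, 2, 2, 2, 0, 2, 0, -2, 0, 2, -2, -2, 2, -2, -2, 2, 0, 2, 0, 0], [0, 2, -2, 2, 0, 2, -2, 2, 0, 2, 0, 2, 0, -2, 2, -2, -2, 2, 2, -2, 0, 2, 0, 0], [0, 2, -2, 2, 0, -2, 2, 2, 0, -2, 0, 2, 0, 2, -2, 2, 2, 2, 2, -2, 0, -2, 0, 0], [0, -2, 2, -2, 0, 2, 2, -2, 0, 2, 0, 2, 0, 2, -2, -2, 2, 2, 2, -2, 0, 2, 0, 0], [0, 2, -2, -2, 0, 2, -2, -2, 0, -2, 0, 2, 0, 2, 2,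 2, 2, -2, 2, 2, 0, 2, 0, 0], [-2, 0, 0, 0, -2, 0, 0, 0, -2, 0, 2, 0, -2, 0, 0, 0, 0, 0, 0, 0, 6, 0, -2, 2], [0, 2, 2, 2, 0, 2, -2, -2, 0, 2, 0, -2, 0, -2, -2, 2, 2, 2, 2, 2, 0, -2, 0, 0], [0, -2, 2, 2, 0, -2, -2, 2, 0, 2, 0, 2, 0, 2, 2, -2, 2, -2, 2, 2, 0, -2, 0, 0], [-2, 0, 0, 0, -2, 0, 0, 0, -2, 0, 2, 0, 6, 0, 0, 0, 0, 0, 0, 0, -2, 0, -2, 2], [0, 2, 2, 2, 0, -2, 2, -2, 0, -2, 0, -2, 0, 2, 2, -2, -2, 2, 2, 2, 0, 2, 0, 0], [0, -2, 2, 2, 0, 2, -2, 2, 0, -2, 0, -2, 0, 2, 2, 2, 2, 2, -2, -2, 0, 2, 0, 0], [0, 2, 2, 2, 0, 2, 2, -2, 0, 2, 0, 2, 0, 2, 2, 2, -2, -2, -2, -2, 0, -2, 0, 0], [0, -2, 2, 2, 0, 2, 2, 2, 0, -2, 0, 2, 0, -2, -2, 2, -2, -2, 2, 2, 0, 2, 0, 0], [0, -2, -2, 2, 0, -2, 2, -2, 0, 2, 0, 2, 0, -2, 2, 2,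 2, 2, -2, 2, 0, 2, 0, 0], [-2, 0, 0, 0, -2, 0, 0, 0, -2, 0, 2, 0, -2, 0, 0, 0, 0, 0, 0, 0, -2, 0, 6, 2], [-2, 0, 0, 0, 6, 0, 0, 0, -2, 0, 2, 0, -2, 0, 0, 0, 0, 0, 0, 0, -2, 0, -2, 2], [2, 0, 0, 0, 2, 0, 0, 0, 2, 0, 6, 0, 2, 0, 0, 0, 0, 0, 0, 0, 2, 0, 2, -2], [-2, 0, 0, 0, -2, 0, 0, 0, 6, 0, 2, 0, -2, 0, 0, 0, 0, 0, 0, 0, -2, 0, -2, 2], [0, 2, 2, -2, 0, 2, 2, 2, 0, -2, 0, 2, 0, -2, 2, -2, 2, 2, -2, 2, 0, -2, 0, 0], [2, 0, 0, 0, 2, 0, 0, 0, 2, 0, -2, 0, 2, 0, 0, 0, 0, 0, 0, 0, 2, 0, 2, 6]]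

def matA3 : List (List ℤ) := [[5, -1, -1, -1, 1, -1, -1, 1, -1, -1, -1, -1, 1, 1, -1, -3, -1, 1, -1, -1, -1, -1, 1, 3], [-1, 1, -3, 1, -1, 1, -3, -1, -3, 1, 1, 1, -1, -1, 1, -1, 1, 3, 1, 1, 1, 1, 3, 1], [-1, -3, 1, 1, 3, -3, 1, 3, -3, 1, 1, 1, -1, -1, 1, -1, 1, -1, 1, 1, 1, 1, -1, 1], [-1, 1, -3, -3, -1, 1, 1, 3, 1, 1, 1, -3, -1, 3, 1, -1, 1, -1, 1, 1, 1, 1, -1, 1], [-1, 1, 1, 1, -1, 1, -3, 3, 1, 1, -3, 1, 3, -1, 1, -1, 1, -1, -3, 1, 1, 1, -1, 1], [1, 3, -1, -1, 1, -1, 3, 1, -1, -1, -1, 3, 1, 1, 3, 1, 3, 1, -1, -1, -1, -1, 1, -1], [-1, 1, -3, 1, 3, 1, 1, -1, 1, 1, 1, 1, 3, -1, -3, -1, 1, -1, 1, -3, 1, 1, -1, 1], [1, -1, -1, 3, 1, 3, 3, 1, -1, 3, -1, -1, 1, 1, -1, 1, -1, 1, -1, 3, -1, -1, 1, -1], [-3, -1, -1, -1,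 1, -1, -1, 1, -1, -1, -1, -1, 1, 1, -1, 5, -1, 1, -1, -1, -1, -1, 1, 3], [-1, 1, 1, 1, -1, 1, 1, 3, 1, 1, 1, 1, -1, -1, 1, -1, -3, -1, 1, -3, -3, 1, 3, 1], [1, -1, 3, -1, 1, 3, -1, 1, -1, -1, -1, -1, 1, 1, -1, 1, 3, 1, 3, -1, -1, 3, 1, -1], [1, -1, -1, -1, 1, -1, -1, 1, 3, -1, 3, 3, 1, 1, -1, 1, -1, 1, -1, 3, -1, 3, 1, -1], [1, -1, -1, 3, 1, -1, -1, 1, 3, -1, -1, -1, 1, 1, 3, 1, -1, 1, 3, -1, 3, -1, 1, -1], [1, 3, 3, -1, 1, -1, -1, 1, -1, 3, 3, -1, 1, 1, -1, 1, -1, 1, -1, -1, 3, -1, 1, -1], [-1, 1, 1, 1, -1, -3, 1, -1, 1, 1, -3, 1, -1, 3, -3, -1, 1, -1, 1, 1, 1, 1, 3, 1], [-1, 1, 1, 1, 3, 1, -3, -1, 1, 1, 1, 1, -1, 3, 1, -1, 1, -1, 1, 1, -3, -3, -1, 1], [-1, 1, 1, 1, -1, -3, 1, -1, 1, 1, 1, -3, 3, -1, 1, -1, 1,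 3, 1, 1, -3, 1, -1, 1], [-1, 1, 1, -3, 3, 1, 1, -1, 1, 1, -3, 1, -1, -1, 1, -1, -3, 3, 1, 1, 1, 1, -1, 1], [-1, 1, 1, 1, -1, 1, 1, -1, -3, -3, 1, 1, 3, 3, 1, -1, -3, -1, 1, 1, 1, 1, -1, 1], [-1, -3, 1, -3, -1, 1, 1, -1, 1, 1, 1, 1, 3, -1, 1, -1, 1, -1, 1, 1, 1, -3, 3, 1], [-1, -3, 1, 1, -1, 1, 1, -1, 1, 1, 1, 1, -1, 3, 1, -1, 1, 3, -3, -3, 1, 1, -1, 1], [-1, 1, 1, 1, -1, 1, 1, 3, 1, -3, 1, 1, -1, -1, -3, -1, 1, 3, 1, 1, 1, -3, -1, 1], [-1, 1, 1, 1, 3, 1, 1, -1, 1, -3, 1, -3, -1, -1, 1, -1, 1, -1, -3, 1, 1, 1, 3, 1], [3, 1, 1, 1, -1, 1, 1, -1, 1, 1, 1, 1, -1, -1, 1, 3, 1, -1, 1, 1, 1, 1, -1, 5]]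

def matT3 : List (List ℤ) := [[5, -1, -1, -1, -1, 1, -1, 1, -3, -1, 1, 1, 1, 1, -1, -1, -1, -1, -1, -1, -1, -1, -1, 3], [-1, 1, -3, 1, 1, 3, 1, -1, -1, 1, -1, -1, -1, 3, 1, 1, 1, 1, 1, -3, -3, 1, 1, 1], [-1, -3, 1, -3, 1, -1, -3, -1, -1, 1, 3, -1, -1, 3, 1, 1, 1, 1, 1, 1, 1, 1, 1, 1], [-1, 1, 1, -3, 1, -1, 1, 3, -1, 1, -1, -1, 3, -1, 1, 1, 1, -3, 1, -3, 1, 1, 1, 1], [1, -1, 3, -1, -1, 1, 3, 1, 1, -1, 1, 1, 1, 1, -1, 3, -1, 3, -1, -1, -1, -1, 3, -1], [-1, 1, -3, 1, 1, -1, 1, 3, -1, 1, 3, -1, -1, -1, -3, 1, -3, 1, 1, 1, 1, 1, 1, 1], [-1, -3, 1, 1, -3, 3, 1, 3, -1, 1, -1, -1, -1, -1, 1, -3, 1, 1, 1, 1, 1, 1, 1, 1], [1, -1, 3, 3, 3, 1, -1, 1, 1, 3, 1, 1, 1, 1, -1, -1, -1, -1, -1, -1, -1, 3, -1, -1], [-1, -3, -3, 1,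 1, -1, 1, -1, -1, 1, -1, 3, 3, -1, 1, 1, 1, 1, -3, 1, 1, 1, 1, 1], [-1, 1, 1, 1, 1, -1, 1, 3, -1, 1, -1, -1, -1, 3, 1, 1, 1, 1, -3, 1, 1, -3, -3, 1], [-1, 1, 1, 1, -3, -1, 1, -1, -1, 1, -1, 3, -1, 3, -3, 1, 1, -3, 1, 1, 1, 1, 1, 1], [-1, 1, 1, -3, 1, 3, 1, -1, -1, 1, -1, 3, -1, -1, 1, 1, -3, 1, 1, 1, 1, 1, -3, 1], [1, -1, -1, -1, 3, 1, 3, 1, 1, -1, 1, 1, 1, 1, -1, -1, 3, -1, 3, 3, -1, -1, -1, -1], [1, -1, -1, 3, -1, 1, -1, 1, 1, -1, 1, 1, 1, 1, 3, 3, -1, -1, 3, -1, 3, -1, -1, -1], [-1, 1, 1, 1, 1, 3, -3, -1, -1, 1, -1, -1, 3, -1, -3, 1, 1, 1, 1, 1, 1, -3, 1, 1], [-3, -1, -1, -1, -1, 1, -1, 1, 5, -1, 1, 1, 1, 1, -1, -1, -1, -1, -1, -1, -1, -1, -1, 3], [-1, 1, 1, 1, 1, 3, 1, -1, -1, -3, 3, -1, -1, -1, 1, 1, 1, -3,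 -3, 1, 1, 1, 1, 1], [1, 3, -1, -1, -1, 1, -1, 1, 1, -1, 1, 1, 1, 1, -1, -1, 3, 3, -1, -1, 3, 3, -1, -1], [-1, 1, 1, 1, -3, -1, 1, -1, -1, 1, 3, -1, 3, -1, 1, 1, 1, 1, 1, 1, -3, 1, -3, 1], [-1, 1, 1, 1, 1, -1, -3, 3, -1, -3, -1, 3, -1, -1, 1, 1, 1, 1, 1, 1, -3, 1, 1, 1], [-1, 1, 1, 1, 1, -1, 1, -1, -1, -3, -1, -1, 3, 3, 1, -3, -3, 1, 1, 1, 1, 1, 1, 1], [-1, 1, 1, 1, 1, -1, 1, -1, -1, 1, 3, 3, -1, -1, 1, -3, 1, 1, 1, -3, 1, -3, 1, 1], [1, 3, -1, -1, -1, 1, -1, 1, 1, 3, 1, 1, 1, 1, 3, -1, -1, -1, -1, 3, -1, -1, 3, -1], [3, 1, 1, 1, 1, -1, 1, -1, 3, 1, -1, -1, -1, -1, 1, 1, 1, 1, 1, 1, 1, 1, 1, 5]]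

def mats : List Mat := [(matA0, matT0), (matA1, matT1), (matA2, matT2), (matA3, matT3)]

def rels : Rels := [
  ([0, 0, 0, 0, 0], []),
  ([1, 0], [0, 1]),
  ([1, 1, 1, 1, 1], []),
  ([2, 0], [0, 2]),
  ([2, 1], [0, 1, 2]),
  ([2, 2, 2, 2, 2], []),
  ([3, 0], [0, 3]),
  ([3, 1, 1], [1, 2, 2, 2, 3]),
  ([3, 1, 2], [0, 0, 1, 3])]

def paths0 : List (List ℕ × List ℕ) := [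
  ([2, 2, 2, 2, 2, 1], [2560, 2817, 256, 2308, 1795, 2308, 1794, 1795, 2308, 1793, 1794, 1795, 2308, 1792, 1793, 1794, 1795, 2308]),
  ([3, 1, 1, 0], [3584, 3076, 1539, 1538, 1537, 512, 3841, 3328, 769, 770]),
  ([3, 1, 1, 1, 1, 1, 1, 1, 1, 1, 1], [3584, 3588, 3592, 3596, 3600, 2051, 1538, 1537, 512, 2051, 1538, 513, 2051, 514, 2565, 2053, 516, 515, 2058, 1545, 1544, 1543, 518, 517, 516, 0, 2053, 1540, 1539, 514, 513, 512, 2053, 1540, 515, 514, 513, 2053, 516, 515, 514, 2567, 2056, 1543, 518, 517, 516, 515, 2056, 519, 518, 517, 516, 0, 1024, 2560, 1281, 1281]),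
  ([3, 1, 2, 0], [4096, 3075, 514, 4353, 3328, 769, 1794]),
  ([3, 1, 2, 1, 2, 1, 2, 1, 2, 1, 2], [4096, 4099, 4102, 4105, 4108, 523, 524, 520, 521, 522, 523, 7, 517, 514, 515, 516, 1029, 0, 1281, 258, 774, 773, 772, 775, 774, 776, 2827, 2313, 2311, 2309, 2307, 1794, 771, 261, 777, 776, 778, 2315, 2313, 2311, 1798, 1797, 1796, 775, 774, 773, 776, 2313, 2311, 1798, 775, 2312])]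

def paths : List (List ℕ × List ℕ) := paths0

def rows : List (List ℕ) := [
  [4, 0, 0, 0, 0, 0, 0, 0, 0],
  [0, 4, 0, 3, 0, 0, 0, 0, 0],
  [2, 0, 4, 0, 0, 3, 0, 0, 0],
  [0, 0, 0, 4, 0, 0, 0, 0, 0],
  [0, 0, 0, 0, 0, 4, 0, 0, 0]]

def mu : List (List ℕ) := [
  [0, 0, 0, 0, 1, 0, 0, 0, 0],
  [0, 0, 0, 0, 0, 0, 0, 0, 0],
  [0, 0, 0, 0, 0, 0, 0, 0, 0]]

def comb : List (List ℕ) := [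
  [4, 0, 0, 0, 0],
  [0, 4, 0, 2, 0],
  [3, 0, 4, 0, 2],
  [0, 0, 0, 4, 0],
  [0, 0, 0, 0, 0],
  [0, 0, 0, 0, 4]]

def levels : List Lev := [
  (514707362783145977499168232893334032, [514707362783145977499168232893334032]),
  (514707362783145977499168232893334032, [514707362783145977499168232893334032, 562694237841204243496879476727856687, 562696770664031285738746706491063791, 602973871598739586654108180246184462, 602976409378162489320458488354718158]),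
  (514707362783145977499168232893334032, [514707362783145977499168232893334032, 519737400364851591764307151212266000, 560098086935981193245946335586666031, 560098087011010151997836850565266991, 560098089409443420251716718649982447, 560098089409443493966633220491953711, 560098089489232524344028176691215919, 560098168637681492305541201407755759, 560179216572053508530037184727074287, 560179298276020541123440638692998703, 560181751873180765930455095381114415, 560181831178787729330543064715412975, 562694235365248683155210186354376175, 562694237841204243496879476727856687, 562694314593413482582027435989515759, 562696770664031285738746706491063791, 562775365001247799378736652045762031, 562777900379817073322587885093240303,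 600380260871599380840275692573180366, 602895279739823440502418313715333646, 602973871598739586654108180246184462, 602976330149999975056052791663870478, 602976406899940116974126424878694862, 602976406902357966235523318416947662, 602976409378162489320458488354718158])]

def cert : CfsgLib.SchurPath.Cert where
  m := 3
  rels := rels
  paths := expandAll rels paths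
  rows := rows
  mu := mu
  comb := comb

end CfsgLib.SchurCoTwo.P5
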