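import Cfsg.Agent.Lib.Schur.CoTwo.Checks2
import Cfsg.Agent.Lib.Schur.CoTwo.Checks3
import Cfsg.Agent.Lib.Schur.CoTwo.Checks5
import Cfsg.Agent.Lib.Schur.Trivial
import Cfsg.Agent.Lib.Schur.Bound
import Mathlib.Tactic.NormNum.Prime

/-!
The Schur multiplier of the group Co2 is trivial.
-/

set_option autoImplicit false

namespace CfsgLib.SchurCoTwo

open Cfsg CfsgLib

theorem prime_cases {r : ℕ} (hr : r.Prime) (h : r ∣ 42305421312000) :
    r = 2 ∨ r = 3 ∨ r = 5 ∨ r = 7 ∨ r = 11 ∨ r = 23 := by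
  rw [show 42305421312000 = 2 ^ 18 * 3 ^ 6 * 5 ^ 3 * 7 * 11 * 23 by norm_num] at h
  rcases hr.dvd_mul.1 h with h | h
  · rcases hr.dvd_mul.1 h with h | h
    · rcases hr.dvd_mul.1 h with h | h
      · rcases hr.dvd_mul.1 h with h | h
        · rcases hr.dvd_mul.1 h with h | h
          · exact Or.inl ((Nat.prime_dvd_prime_iff_eq hr Nat.prime_two).1 (hr.dvd_of_dvd_pow h))
          · exact Or.inr (Or.inl ((Nat.prime_dvd_prime_iff_eq hr Nat.prime_three).1 (hr.dvd_of_dvd_pow h)))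
        · exact Or.inr (Or.inr (Or.inl ((Nat.prime_dvd_prime_iff_eq hr Nat.prime_five).1 (hr.dvd_of_dvd_pow h))))
      · exact Or.inr (Or.inr (Or.inr (Or.inl ((Nat.prime_dvd_prime_iff_eq hr (by norm_num)).1 h))))
    · exact Or.inr (Or.inr (Or.inr (Or.inr (Or.inl ((Nat.prime_dvd_prime_iff_eq hr (by norm_num)).1 h)))))
  · exact Or.inr (Or.inr (Or.inr (Or.inr (Or.inr ((Nat.prime_dvd_prime_iff_eq hr (by norm_num)).1 h)))))

theorem hasCyclic_stab : Cfsg.HasCyclicSchurMultiplier G2 1 := by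
  have hcard : Nat.card G2 = 42305421312000 := card_G2
  have : Finite G2 := Nat.finite_of_card_ne_zero (by rw [hcard]; norm_num)
  refine SchurTrivial.hasCyclic_one fun Γ _ _ σ hσ hc hd r hr hdvd => ?_
  rw [hcard] at hdvd
  have h2 : Fact (Nat.Prime 2) := ⟨Nat.prime_two⟩
  have h3 : Fact (Nat.Prime 3) := ⟨Nat.prime_three⟩
  have h5 : Fact (Nat.Prime 5) := ⟨Nat.prime_five⟩
  have h7 : Fact (Nat.Prime 7) := ⟨by norm_num⟩
  have h11 : Fact (Nat.Prime 11) := ⟨by norm_num⟩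
  have h23 : Fact (Nat.Prime 23) := ⟨by norm_num⟩
  rcases prime_cases hr hdvd with rfl | rfl | rfl | rfl | rfl | rfl
  · exact not_dvd_of_maskData P2.mats P2.levels P2.cert P2.mus P2.combs P2.rowsAll P2.check_ok P2.rows_ok P2.lets_ok P2.data_ok (i := 161382375)
      (by norm_num [P2.cert]) (by norm_num) σ hσ hc hd
  · exact not_dvd_of_data P3.mats P3.levels P3.cert P3.check_ok P3.lets_ok P3.data_ok (i := 58032128000)
      (by norm_num [P3.cert]) (by norm_num) σ hσ hc hd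
  · exact not_dvd_of_data P5.mats P5.levels P5.cert P5.check_ok P5.lets_ok P5.data_ok (i := 338443370496)
      (by norm_num [P5.cert]) (by norm_num) σ hσ hc hd
  all_goals exact SchurBound.not_dvd_card_ker_of_sq_not_dvd σ hσ hc hd (by rw [hcard]; norm_num)

end CfsgLib.SchurCoTwo
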